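import Cfsg.Agent.Comp.J4.Data

/-! The start of the enumeration. -/

set_option autoImplicit false
set_option maxRecDepth 100000

namespace Cfsg.Agent.Comp.J4
open Cfsg Cfsg.Agent.Comp

def Ws : List (List Nat) :=
  [[],
   [3],
   [3, 1, 3],
   [3, 1, 3, 0, 1, 0, 2, 0, 1, 0, 1, 0, 2, 0, 2, 0, 1, 3],
   [3, 1, 0, 1, 3],
   [3, 1, 3, 1, 3],
   [3, 1, 3, 1, 3, 1, 0, 1, 0, 1, 0, 1, 0, 2, 3],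
   [3, 1, 3, 1, 3, 1, 0, 1, 0, 1, 0, 1, 0, 2, 3, 2, 0, 2, 0, 1, 0, 1, 0, 2, 3],
   [3, 1, 3, 1, 3, 1, 0, 1, 0, 1, 0, 1, 0, 2, 3, 2, 0, 2, 0, 1, 0, 1, 0, 2, 3, 1, 0, 1, 0, 2, 0, 1, 0, 1, 0, 1, 0, 2, 0, 2, 0, 1, 3],
   [3, 1, 3, 1, 3, 1, 0, 1, 0, 1, 0, 1, 0, 2, 3, 2, 0, 2, 0, 1, 0, 1, 0, 2, 3, 0, 2, 0, 1, 0, 1, 0, 2, 0, 2, 0, 1, 0, 1, 3],
   [3, 1, 3, 1, 3, 1, 0, 1, 0, 1, 0, 1, 0, 2, 3, 2, 0, 2, 0, 1, 0, 1, 0, 2, 3, 0, 2, 3],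
   [3, 1, 3, 1, 3, 1, 0, 1, 0, 1, 0, 1, 0, 2, 3, 2, 0, 2, 0, 1, 0, 1, 0, 2, 3, 0, 2, 3, 2, 0, 1, 0, 1, 0, 1, 0, 2, 0, 1, 0, 2, 0, 2, 0, 2, 0, 1, 0, 1, 0, 2, 3],
   [3, 1, 3, 1, 3, 1, 0, 1, 0, 1, 0, 1, 0, 2, 3, 2, 0, 2, 0, 1, 0, 1, 0, 2, 3, 0, 2, 3, 2, 0, 1, 0, 1, 0, 1, 0, 2, 0, 1, 0, 2, 0, 2, 0, 2, 0, 1, 0, 1, 0, 2, 3, 0, 1, 3],
   [3, 1, 3, 1, 3, 1, 0, 1, 0, 1, 0, 1, 0, 2, 3, 2, 0, 2, 0, 1, 0, 1, 0, 2, 3, 0, 2, 3, 2, 0, 1, 0, 1, 0, 1, 0, 2, 0, 1, 0, 2, 0, 2, 0, 2, 0, 1, 0, 1, 0, 2, 3, 0, 1, 3, 0, 1, 0, 2, 0, 2, 0, 1, 0, 1, 3],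
   [3, 1, 3, 1, 3, 1, 0, 1, 0, 1, 0, 1, 3],
   [3, 1, 3, 1, 3, 2, 0, 1, 0, 2, 0, 1, 0, 1, 0, 2, 3],
   [3, 1, 3, 1, 3, 1, 0, 1, 0, 1, 0, 1, 0, 2, 3, 2, 0, 2, 0, 1, 0, 1, 0, 2, 3, 0, 1, 3],
   [3, 1, 3, 2, 0, 2, 3],
   [3, 1, 0, 1, 3, 1, 0, 2, 0, 2, 0, 2, 0, 2, 0, 1, 3],
   [3, 1, 3, 0, 1, 0, 2, 0, 1, 0, 1, 0, 2, 0, 2, 0, 1, 3, 0, 2, 0, 1, 0, 1, 3],
   [3, 1, 3, 1, 3, 1, 0, 1, 0, 1, 0, 1, 0, 2, 3, 2, 0, 2, 0, 1, 0, 1, 0, 2, 3, 0, 2, 3, 2, 0, 1, 0, 1, 0, 1, 0, 2, 0, 1, 0, 2, 0, 2, 0, 2, 0, 1, 0, 1, 0, 2, 3, 0, 1, 3, 1, 0, 1, 0, 1, 0, 1, 0, 2, 0, 1, 0, 1, 0, 1, 0, 1, 0, 1, 3]]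

def U : List (List Nat) :=
  [[],
   [1],
   [0, 1, 0, 2, 0, 1, 0, 1, 0, 2, 0, 2, 0, 1],
   [1, 0, 1],
   [1],
   [1, 0, 1, 0, 1, 0, 1, 0, 2],
   [2, 0, 2, 0, 1, 0, 1, 0, 2],
   [1, 0, 1, 0, 2, 0, 1, 0, 1, 0, 1, 0, 2, 0, 2, 0, 1],
   [0, 2, 0, 1, 0, 1, 0, 2, 0, 2, 0, 1, 0, 1],
   [0, 2],
   [2, 0, 1, 0, 1, 0, 1, 0, 2, 0, 1, 0, 2, 0, 2, 0, 2, 0, 1, 0, 1, 0, 2],
   [0, 1],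
   [1, 0, 1, 0, 1, 0, 1, 0, 2, 0, 1, 0, 1, 0, 1, 0, 1, 0, 1],
   [0, 1, 0, 2, 0, 2, 0, 1, 0, 1],
   [1, 0, 1, 0, 1, 0, 1],
   [2, 0, 1, 0, 2, 0, 1, 0, 1, 0, 2],
   [0, 1],
   [2, 0, 2],
   [1, 0, 2, 0, 2, 0, 2, 0, 2, 0, 1],
   [0, 2, 0, 1, 0, 1]]

def FA : List (List Nat × List Nat × List Nat × List (List Nat)) :=
  [([1, 0, 1, 0, 2, 0, 1, 0, 2], [1, 0, 2, 0, 1, 0, 2, 0, 1, 0, 1, 0, 2, 0, 1, 0, 2, 3, 1, 0, 2, 0, 1, 0, 2, 0, 1, 0, 1, 0, 2, 0, 1, 0, 2, 3, 1, 0, 2, 0, 1, 0, 2, 0], [1, 0, 2, 0, 1, 0, 2, 0, 2, 0, 1, 0, 2, 0, 1, 0, 2], [[1, 0, 2, 0, 1, 0, 2, 0, 2, 0, 1, 0, 2, 0, 1, 0, 2], [1, 0, 2, 0, 1, 0, 2, 0, 2, 0, 1, 0, 2, 0, 1, 0, 2]]),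
   ([0, 1, 0, 2, 0, 1, 0, 2], [1, 0, 2, 0, 1, 0, 2, 0, 2, 0, 1, 0, 2, 0, 1, 0, 2, 3, 1, 0, 2, 0, 1, 0, 2, 0, 2, 0, 1, 0, 2, 0, 1, 0, 2, 3, 1, 0, 2, 0, 1, 0, 2, 0, 2], [1, 0, 2, 0, 1, 0, 2, 0, 1, 0, 1, 0, 2, 0, 1, 0, 2], [[1, 0, 2, 0, 1, 0, 2, 0, 1, 0, 1, 0, 2, 0, 1, 0, 2], [1, 0, 2, 0, 1, 0, 2, 0, 1, 0, 1, 0, 2, 0, 1, 0, 2]]),
   ([1, 0, 1, 0, 1, 0, 1, 1, 0, 1, 0, 1, 0, 1, 1, 0, 1, 0, 1, 0, 1], [2, 2, 0, 2, 0, 2, 0, 2, 0, 2, 0, 2, 0, 2, 2, 0, 2, 0, 2, 0, 3, 0, 1, 0, 1, 0, 1, 1, 0, 1, 0, 1, 0, 1, 0, 1, 0, 1, 0, 1, 1, 1, 0, 1, 0, 1, 0, 1, 1, 0, 1, 0, 1, 0, 1, 1, 0, 1, 0, 1, 0, 1, 3, 2, 2, 0, 2, 0, 2, 0, 2, 0, 2, 0, 2, 0, 2, 2, 0, 2, 0, 2, 0, 3, 0, 1, 0, 1, 0, 1, 1, 0, 1, 0, 1, 0, 1, 0, 1, 0, 1, 0, 1, 1], [2, 0, 2, 0, 2, 0, 2, 2, 0, 2, 0,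 2, 0, 2, 2, 0, 2, 0, 2, 0, 2, 2, 2, 0, 2, 0, 2, 0, 2, 0, 2, 0, 2, 0, 2, 2, 0, 2, 0, 2, 0], [[0, 1, 0, 1, 0, 1, 1, 0, 1, 0, 1, 0, 1, 0, 1, 0, 1, 0, 1, 1], [2, 0, 2, 0, 2, 0, 2, 2, 0, 2, 0, 2, 0, 2, 2, 0, 2, 0, 2, 0, 2, 2, 2, 0, 2, 0, 2, 0, 2, 0, 2, 0, 2, 0, 2, 2, 0, 2, 0, 2, 0], [0, 1, 0, 1, 0, 1, 1, 0, 1, 0, 1, 0, 1, 0, 1, 0, 1, 0, 1, 1]]),
   ([1, 0, 1, 0, 1, 0, 1, 1, 0, 1, 0, 1, 0, 1, 1, 0, 1, 0, 1, 0, 1, 3, 2, 2, 0, 2, 0, 2, 0, 2, 0, 2, 0, 2, 0, 2, 2, 0, 2, 0, 2, 0], [0, 1, 0, 1, 0, 1, 1, 0, 1, 0, 1, 0, 1, 0, 1, 0, 1, 0, 1, 1, 1, 0, 1, 0, 1, 0, 1, 1, 0, 1, 0, 1, 0, 1, 1, 0, 1, 0, 1, 0, 1, 3, 2, 2, 0, 2, 0, 2, 0, 2, 0, 2, 0, 2, 0, 2, 2, 0, 2, 0, 2, 0, 3, 0, 1, 0, 1, 0, 1, 1, 0, 1, 0, 1, 0, 1, 0, 1, 0, 1, 0, 1, 1], [0, 1, 0, 1, 0, 1,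 1, 0, 1, 0, 1, 0, 1, 0, 1, 0, 1, 0, 1, 1], [[2, 0, 2, 0, 2, 0, 2, 2, 0, 2, 0, 2, 0, 2, 2, 0, 2, 0, 2, 0, 2, 2, 2, 0, 2, 0, 2, 0, 2, 0, 2, 0, 2, 0, 2, 2, 0, 2, 0, 2, 0], [0, 1, 0, 1, 0, 1, 1, 0, 1, 0, 1, 0, 1, 0, 1, 0, 1, 0, 1, 1], [2, 0, 2, 0, 2, 0, 2, 2, 0, 2, 0, 2, 0, 2, 2, 0, 2, 0, 2, 0, 2, 2, 2, 0, 2, 0, 2, 0, 2, 0, 2, 0, 2, 0, 2, 2, 0, 2, 0, 2, 0]]),
   ([2, 2, 0, 2, 0, 2, 0, 2, 0, 2, 0, 2, 0, 2, 2, 0, 2, 0, 2, 0], [0, 1, 0, 1, 0, 1, 1, 0, 1, 0, 1, 0, 1, 0, 1, 0, 1, 0, 1, 1, 3, 2, 0, 2, 0, 2, 0, 2, 2, 0, 2, 0, 2, 0, 2, 2, 0, 2, 0, 2, 0, 2, 2, 2, 0, 2, 0, 2, 0, 2, 0, 2, 0, 2, 0, 2, 2, 0, 2, 0, 2, 0, 3, 0, 1, 0, 1, 0, 1, 1, 0, 1, 0, 1, 0, 1, 0, 1, 0, 1, 0, 1, 1, 3, 2, 0, 2, 0, 2, 0, 2, 2, 0, 2, 0, 2, 0, 2, 2, 0, 2, 0, 2, 0, 2], [0,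 1, 0, 1, 0, 1, 1, 0, 1, 0, 1, 0, 1, 0, 1, 0, 1, 0, 1, 1, 1, 0, 1, 0, 1, 0, 1, 1, 0, 1, 0, 1, 0, 1, 1, 0, 1, 0, 1, 0, 1], [[2, 2, 0, 2, 0, 2, 0, 2, 0, 2, 0, 2, 0, 2, 2, 0, 2, 0, 2, 0], [0, 1, 0, 1, 0, 1, 1, 0, 1, 0, 1, 0, 1, 0, 1, 0, 1, 0, 1, 1, 1, 0, 1, 0, 1, 0, 1, 1, 0, 1, 0, 1, 0, 1, 1, 0, 1, 0, 1, 0, 1], [2, 2, 0, 2, 0, 2, 0, 2, 0, 2, 0, 2, 0, 2, 2, 0, 2, 0, 2, 0]]),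
   ([2, 2, 0, 2, 0, 2, 0, 2, 0, 2, 0, 2, 0, 2, 2, 0, 2, 0, 2, 0, 3, 0, 1, 0, 1, 0, 1, 1, 0, 1, 0, 1, 0, 1, 0, 1, 0, 1, 0, 1, 1], [2, 0, 2, 0, 2, 0, 2, 2, 0, 2, 0, 2, 0, 2, 2, 0, 2, 0, 2, 0, 2, 2, 2, 0, 2, 0, 2, 0, 2, 0, 2, 0, 2, 0, 2, 2, 0, 2, 0, 2, 0, 3, 0, 1, 0, 1, 0, 1, 1, 0, 1, 0, 1, 0, 1, 0, 1, 0, 1, 0, 1, 1, 3, 2, 0, 2, 0, 2, 0, 2, 2, 0, 2, 0, 2, 0, 2, 2, 0, 2, 0, 2, 0, 2], [2, 2, 0, 2, 0, 2, 0, 2, 0, 2, 0, 2, 0, 2, 2, 0, 2, 0, 2, 0], [[0, 1, 0, 1, 0, 1, 1, 0, 1, 0, 1, 0, 1, 0, 1, 0, 1, 0, 1, 1, 1, 0, 1, 0, 1, 0, 1, 1, 0, 1, 0, 1, 0, 1, 1, 0, 1, 0, 1, 0, 1], [2, 2, 0, 2, 0, 2, 0, 2, 0, 2, 0, 2, 0, 2, 2, 0, 2, 0, 2, 0], [0, 1, 0, 1, 0, 1, 1, 0, 1, 0, 1, 0, 1, 0, 1, 0, 1, 0, 1, 1, 1, 0, 1, 0, 1, 0, 1, 1, 0, 1, 0, 1, 0, 1, 1, 0, 1,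 0, 1, 0, 1]])]

def v0 : List Nat := [1, 0, 1, 0, 2, 0, 2, 0, 2, 0, 2]
def v1 : List Nat := [1, 0, 1, 0, 1, 0, 1, 0, 2, 0, 1, 0, 1, 0, 2, 0, 2, 0, 2, 0, 2]
def v2 : List Nat := [1, 0, 1, 0, 1, 0, 1, 0, 2, 0, 1, 0, 1, 0, 2, 0, 2, 0, 2, 0, 2]
def v3 : List Nat := [1, 0, 1, 0, 1, 0, 1, 0, 2, 0]

open Cfsg.Agent.Golay
open scoped Pointwise

/-- the inverse word -/
def iw (w : List ℕ) : List ℕ := (w.map fun a => [0, 2, 1, 3].getD a 0).reverse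

variable {G : Type*} [Group G] {s : ℕ → G} {ι : M24 →* G}

theorem ev_iw (hs : Sat s R) {w : List ℕ} (hw : ∀ a ∈ w, a < 4) : ev s (iw w) = (ev s w)⁻¹ := by
  induction w with
  | nil => simp [iw]
  | cons a w ih =>
    have h : s a * s ([0, 2, 1, 3].getD a 0) = 1 := by
      simpa using hs _ ((by decide : ∀ a < 4, [a, [0, 2, 1, 3].getD a 0] ∈ R) a
        (hw a List.mem_cons_self))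
    rw [show iw (a :: w) = iw w ++ [[0, 2, 1, 3].getD a 0] by simp [iw], ev_append,
      ih fun b hb => hw b (List.mem_cons_of_mem _ hb), ev_single, ev_cons, mul_inv_rev,
      inv_eq_of_mul_eq_one_right h]

theorem tt (hs : Sat s R) : s 3 * s 3 = 1 := by simpa using hs [3, 3] (by decide)

theorem i_ev (hι : ∀ a < 3, ι (J4A.t a) = s a) {w : List ℕ} (hw : ∀ a ∈ w, a < 3) :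
    ι (ev J4A.t w) = ev s w := by
  rw [map_ev]; exact ev_congr fun a ha => hι a (hw a ha)

theorem gen_T : Gen pc (St M24 tr0) [J4A.evc [0], J4A.evc kw] :=
  gen_of_chain ((fixTest_fd c0_ok).in_St (by decide +kernel)) (card_St_trio tr0_mem)
    [(0, 16777215, 5, [[1, 0, 1, 0, 1, 0, 1, 0, 1, 0, 1, 0, 1, 0, 1, 0, 1, 0, 1, 1], [0, 1, 0, 1, 1, 0, 1, 1, 1, 0, 1, 1, 0]]),
    (1, 14089310, 3, [[0, 1, 0, 0, 0, 1, 0, 1, 0, 0, 1], [0, 1, 0, 0, 1, 0, 1, 1]]),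
    (2, 13938692, 3, [[1, 1, 0, 1, 1, 0], [1, 1, 1, 0, 1, 1, 0, 1, 1]]),
    (3, 150616, 3, [[1, 1]]),
    (4, 133136, 2, [])] (by decide +kernel)

theorem cm_T (hs : Sat s R) (hι : ∀ a < 3, ι (J4A.t a) = s a) (u : M24) (hu : u • o = o) :
    ι u * s 3 = s 3 * ι u := by
  have h : ∀ w : List ℕ, (∀ a ∈ w, a < 3) → 3 :: (iw w ++ 3 :: w) ∈ R →
      ι (ev J4A.t w) * s 3 = s 3 * ι (ev J4A.t w) := fun w h1 h2 => by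
    have e := hs _ h2
    rw [ev_cons, ev_append, ev_cons, ev_iw hs fun a ha => (h1 a ha).trans (by norm_num)] at e
    rw [i_ev hι h1]
    have e2 := eq_inv_of_mul_eq_one_right e
    rw [inv_eq_of_mul_eq_one_right (tt hs)] at e2
    conv_lhs => rw [← e2]
    group
  obtain ⟨g, hg, e⟩ := gen_T.le
    (((Subgroup.centralizer {s 3}).comap ι).map M24.subtype) (fun g hg hc => by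
      simp only [List.mem_cons, List.not_mem_nil, or_false, ← J4A.pc_ev, pc_inj] at hc
      rcases hc with rfl | rfl
      · exact ⟨_, Subgroup.mem_centralizer_singleton_iff.2 (h [0] (by decide) (by decide)), rfl⟩
      · exact ⟨_, Subgroup.mem_centralizer_singleton_iff.2 (h kw (by decide) (by decide +kernel)),
          rfl⟩) (show u.1 ∈ St M24 tr0 from ⟨u.2, congrArg Subtype.val hu⟩)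
  obtain rfl : g = u := Subtype.ext e
  exact Subgroup.mem_centralizer_singleton_iff.1 hg

theorem range_le (hs : Sat s R) (hι : ∀ a < 3, ι (J4A.t a) = s a) {K : Subgroup G}
    (h0 : s 0 ∈ K) (h1 : s 1 ∈ K) : ι.range ≤ K := by
  rw [MonoidHom.range_eq_map, ← J4A.gen_t]
  refine Subgroup.map_le_iff_le_comap.2 (gen_le.2 fun a ha => ?_)
  rw [Subgroup.mem_comap, hι a ha]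
  have h2 : s 1 * s 2 = 1 := by simpa using hs [1, 2] (by decide)
  interval_cases a
  exacts [h0, h1, eq_inv_of_mul_eq_one_right h2 ▸ inv_mem h1]

/-- the representatives of the double cosets -/
def wd (s : ℕ → G) (i : ℕ) : G := ev s (Ws.getD i [])

theorem ctx (hs : Sat s R) (hι : ∀ a < 3, ι (J4A.t a) = s a) :
    Ctx (genW s [[0], [1], vw]) ι (s 3) (wd s) :=
  ⟨cm_T hs hι, range_le hs hι (letter_mem_genW (by simp)) (letter_mem_genW (by simp)), rfl,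
    ev_single _ 3, tt hs⟩

theorem fr_words (hι : ∀ a < 3, ι (J4A.t a) = s a) (us : List (List ℕ))
    (h : ∀ u ∈ us, ∀ a ∈ u, a < 3) :
    Fr ι (s 3) (us.map J4A.evc) (ev s (us.flatMap (3 :: ·))) := by
  induction us with
  | nil => rfl
  | cons u us ih =>
    refine ⟨ev J4A.t u, _, J4A.pc_ev u, ih fun v hv => h v (List.mem_cons_of_mem _ hv), ?_⟩
    rw [List.flatMap_cons, ev_append, ev_cons, i_ev hι (h u List.mem_cons_self)]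

theorem frames (hs : Sat s R) (hι : ∀ a < 3, ι (J4A.t a) = s a) : ∀ f ∈ FT, FrOK ι (s 3) f := by
  intro f hf
  rcases (by decide +kernel : ∀ f ∈ FT, f = (0, one, []) ∨ f = (1, one, [one]) ∨
    f = (0, one, [one, one]) ∨ ∃ z ∈ FA, f = (1, J4A.evc z.2.2.1, z.2.2.2.map J4A.evc) ∧
      (z.1 ++ 3 :: z.2.1 ∈ R ∨ iw (z.1 ++ 3 :: z.2.1) ∈ R) ∧ (∀ a ∈ z.1, a < 4) ∧
      (∀ a ∈ z.2.1, a < 4) ∧ (∀ a ∈ z.2.2.1, a < 3) ∧ (∀ u ∈ z.2.2.2, ∀ a ∈ u, a < 3) ∧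
      z.2.2.1 ++ z.2.2.2.flatMap (3 :: ·) = iw (z.2.1 ++ z.1)) f hf with
    rfl | rfl | rfl | ⟨⟨a, b, u, us⟩, -, rfl, h1, h2, h3, h4, h5, h6⟩
  · exact ⟨1, 1, pc_one, rfl, by simp⟩
  · exact ⟨1, _, pc_one, ⟨1, 1, pc_one, rfl, rfl⟩, by simp⟩
  · exact ⟨1, _, pc_one, ⟨1, _, pc_one, ⟨1, 1, pc_one, rfl, rfl⟩, rfl⟩, by simp [tt hs]⟩
  · refine ⟨ev J4A.t u, _, J4A.pc_ev u, fr_words hι us h5, ?_⟩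
    have h7 : ev s (a ++ 3 :: b) = 1 := h1.elim (hs _) fun e => by
      have := hs _ e
      rwa [ev_iw hs (by simp only [List.mem_append, List.mem_cons]; grind), inv_eq_one] at this
    rw [i_ev hι h4, ← ev_append, h6, ev_iw hs (by simp only [List.mem_append]; grind), pow_one,
      ev_append]
    rw [ev_append, ev_cons] at h7
    refine eq_inv_of_mul_eq_one_left ?_
    rw [eq_inv_of_mul_eq_one_left h7]; group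

theorem base (hs : Sat s R) (hι : ∀ a < 3, ι (J4A.t a) = s a) :
    ∀ f < 21, Ft (genW s [[0], [1], vw]) ι (s 3) (wd s) (db D f) := by
  intro f hf
  rcases (by decide +kernel : ∀ f < 21, fe (db D f) = 1 ∧ fp (db D f) 0 = J4A.evc (U.getD f []) ∧
      fp (db D f) 1 = one ∧ (∀ a ∈ U.getD f [], a < 3) ∧
      Ws.getD (fa (db D f) 1) [] = Ws.getD (fa (db D f) 0) [] ++ U.getD f [] ++ [3] ∨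
      fe (db D f) = 1 ∧ fp (db D f) 0 = J4A.evc v1 ∧ fp (db D f) 1 = J4A.evc (iw v2) ∧
      fa (db D f) 0 = 1 ∧ fa (db D f) 1 = 1) f hf with ⟨h1, h2, h3, h4, h5⟩ | ⟨h1, h2, h3, h4, h5⟩
  · refine ⟨ev J4A.t (U.getD f []), 1, h2 ▸ J4A.pc_ev _, h3 ▸ pc_one, ?_⟩
    rw [h1, wd, wd, h5, i_ev hι h4]; simp [mul_assoc]
  · refine ⟨ev J4A.t v1, ev J4A.t (iw v2), h2 ▸ J4A.pc_ev _, h3 ▸ J4A.pc_ev _, ?_⟩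
    have C := ctx hs hι
    have e : ev s vw = ev s v0 * (s 3 * ev s v1 * s 3 * ev s v2 * s 3) * ev s v3 := by
      rw [show vw = v0 ++ (3 :: v1 ++ 3 :: v2 ++ [3]) ++ v3 from rfl]; simp [mul_assoc]
    have h6 := mul_mem (mul_mem (inv_mem (C.le ⟨_, i_ev hι (w := v0) (by decide)⟩))
      (ev_mem_genW (s := s) (W := [[0], [1], vw]) (w := vw) (by simp)))
      (inv_mem (C.le ⟨_, i_ev hι (w := v3) (by decide)⟩))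
    rw [h1, h4, h5, C.w1, i_ev hι (by decide), i_ev hι (by decide), ev_iw hs (by decide), cs_eq,
      mul_inv_rev, inv_inv, inv_eq_of_mul_eq_one_right (tt hs)]
    convert h6 using 1
    rw [e]; group

end Cfsg.Agent.Comp.J4
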