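import Cfsg.Agent.Comp.J4.Gen
import Cfsg.Agent.Golay.Sextet

/-!
A checker for walks through double cosets `H g N`, where `N` is an image of `M24` and `t` commutes
with the stabiliser of a trio.
-/

set_option autoImplicit false

namespace Cfsg.Agent.Comp.J4
open Cfsg Cfsg.Agent.Golay
open scoped Pointwise

/-- code of the trio -/
def c0 : ℕ := 3923393051172570025050
/-- the trio -/
def tr0 : Finset (Finset GolayPt) := fd 3 c0

theorem c0_ok : FOk 3 c0 := by decide +kernel
theorem tr0_mem : tr0 ∈ trios := TrioOk.mem (by decide +kernel)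

/-- the trios -/
abbrev Ω : Type := MulAction.orbit M24 tr0
/-- the base point -/
def o : Ω := ⟨tr0, MulAction.mem_orbit_self _⟩

theorem orbit_tr0 : MulAction.orbit M24 tr0 = trios :=
  orbit_eq_of_trans (fun _ hg => smul_mem_trios hg tr0_mem) fun _ hy => trio_trans tr0_mem hy

noncomputable instance instFintypeΩ : Fintype Ω := Fintype.ofFinite _

theorem card_Ω : Fintype.card Ω = 3795 := by
  rw [← Nat.card_eq_fintype_card, Nat.card_coe_set_eq, orbit_tr0, ncard_trios]

theorem tr_Ω (x : Ω) : ∃ h : M24, h • o = x := let ⟨h, e⟩ := x.2; ⟨h, Subtype.ext e⟩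

/-- code of a trio -/
def code (x : Ω) : ℕ := fc x.1

theorem act_code (g : M24) (x : Ω) : actF 3 (mat (pc g.1)) (code x) = code (g • x) := by
  have h : x.1.card = 3 := (orbit_tr0 ▸ x.2 : x.1 ∈ trios).1
  rw [← h]; exact actF_pc g.1 x.1

theorem code_o : code o = c0 := c0_ok.fc_fd

/-- zero for the elements that fix the trio -/
noncomputable def fx (u : ℕ) : ℕ := Nat.xor (actF (nat_lit 3) (mat u) c0) c0

theorem fix_of_fx {u : M24} (h : fx (pc u.1) = 0) : u • o = o :=
  Subtype.ext (fixTest_fd c0_ok u.1 u.2 h)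

/-- the number of letters `t` of a fact -/
def fe (x : ℕ) : ℕ := Nat.land x (nat_lit 1)
/-- the nodes of a fact -/
def fa (x d : ℕ) : ℕ := get (nat_lit 5) (Nat.shiftRight x (nat_lit 1)) d
/-- the permutations of a fact -/
def fp (x d : ℕ) : ℕ := get (nat_lit 120) (Nat.shiftRight x (nat_lit 16)) d
/-- an entry of a table -/
noncomputable def db (D : List ℕ) (k : ℕ) : ℕ :=
  get (nat_lit 256) (nthL (nat_lit 0) D (Nat.div k (nat_lit 64))) (Nat.mod k (nat_lit 64))

/-- moves with a given permutation -/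
noncomputable def litOK (j c : ℕ) : Bool :=
  Nat.beq (m24Err c) (nat_lit 0) &&
    (Nat.beq j (nat_lit 0) || Nat.beq j (nat_lit 1) && Nat.beq (fx c) (nat_lit 0))

/-- a move -/
noncomputable def mv (D Lt : List ℕ) (k : ℕ) (ih : ℕ → ℕ → List ℕ → Bool) (m j v : ℕ)
    (F : List ℕ) : Bool :=
  cond (Nat.ble (nat_lit 8192) m)
    (force (nthL (nat_lit 0) Lt (Nat.sub m (nat_lit 8192))) fun c =>
      litOK j c && force (mul c v) fun v' => ih j v' F)
    (force (db D (Nat.shiftRight m (nat_lit 1))) fun x =>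
      force (fe m) fun d => force (Nat.sub (nat_lit 1) d) fun d' =>
      (Nat.ble (Nat.succ (Nat.shiftRight m (nat_lit 1))) k && Nat.beq (fa x d) j) &&
      force (fp x d) fun p => force (inv p) fun pi => force (mul pi v) fun r =>
      force (fp x d') fun p' => force (mul p' r) fun v' => force (fa x d') fun j' =>
      cond (Nat.beq (fe x) (nat_lit 0)) (ih j' v' F)
        (Nat.beq (fx r) (nat_lit 0) && List.rec (motive := fun _ => Bool) false
          (fun c F' _ => force (mul v' c) fun v'' => ih j' v'' F') F))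

/-- a walk -/
noncomputable def walk (D Lt : List ℕ) (k b q n : ℕ) : ℕ → ℕ → ℕ → List ℕ → Bool :=
  Nat.rec (motive := fun _ => ℕ → ℕ → ℕ → List ℕ → Bool)
    (fun _ j v F => Nat.beq j b && (Nat.beq v q && F.isEmpty))
    (fun _ ih ms j v F => force (Nat.land ms (nat_lit 16383)) fun m =>
      force (Nat.shiftRight ms (nat_lit 14)) fun ms' => mv D Lt k (ih ms') m j v F) n

/-- the check of a fact -/
noncomputable def chk (D P Lt : List ℕ) (FT : List (ℕ × ℕ × List ℕ)) (k : ℕ) : Bool :=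
  force (db D k) fun x => force (db P k) fun y => force (fp x (nat_lit 0)) fun p =>
    (Nat.beq (m24Err p) (nat_lit 0) &&
      Nat.beq (FT.getD (Nat.land y (nat_lit 15)) (0, one, [])).1 (fe x)) &&
    force (mul p (FT.getD (Nat.land y (nat_lit 15)) (0, one, [])).2.1) fun v =>
      walk D Lt k (fa x (nat_lit 1)) (fp x (nat_lit 1))
        (Nat.land (Nat.shiftRight y (nat_lit 4)) (nat_lit 31)) (Nat.shiftRight y (nat_lit 9))
        (fa x (nat_lit 0)) v (FT.getD (Nat.land y (nat_lit 15)) (0, one, [])).2.2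

/-- a check on an interval -/
noncomputable def rng (f : ℕ → Bool) (lo n : ℕ) : Bool :=
  Nat.rec (motive := fun _ => Bool) true (fun i ih => force (Nat.add lo i) f && ih) n

theorem rng_spec {f : ℕ → Bool} {lo n : ℕ} (h : rng f lo n = true) {k : ℕ} (h1 : lo ≤ k)
    (h2 : k < lo + n) : f k = true := by
  induction n with
  | zero => omega
  | succ n ih =>
    have e : rng f lo (n + 1) = (force (lo + n) f && rng f lo n) := rfl
    rw [e, force_eq, Bool.and_eq_true] at h
    by_cases c : k = lo + n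
    · exact c ▸ h.1
    · exact ih h.2 (by omega)

variable {G : Type*} [Group G] {H : Subgroup G} {ι : M24 →* G} {t : G} {w : ℕ → G}

/-- the setting -/
structure Ctx (H : Subgroup G) (ι : M24 →* G) (t : G) (w : ℕ → G) : Prop where
  cm : ∀ u, u • o = o → ι u * t = t * ι u
  le : ι.range ≤ H
  w0 : w 0 = 1
  w1 : w 1 = t
  tt : t * t = 1

/-- the meaning of a fact -/
def Ft (H : Subgroup G) (ι : M24 →* G) (t : G) (w : ℕ → G) (x : ℕ) : Prop :=
  ∃ p q : M24, pc p.1 = fp x 0 ∧ pc q.1 = fp x 1 ∧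
    cs H (w (fa x 0) * ι p * t ^ fe x) = cs H (w (fa x 1) * ι q)

theorem fe_le (x : ℕ) : fe x = 0 ∨ fe x = 1 := by
  have : fe x = x % 2 := Nat.and_one_is_mod x
  omega

theorem Ft.dir (C : Ctx H ι t w) {x : ℕ} (h : Ft H ι t w x) (m : ℕ) :
    ∃ p q : M24, pc p.1 = fp x (fe m) ∧ pc q.1 = fp x (Nat.sub 1 (fe m)) ∧
      cs H (w (fa x (fe m)) * ι p * t ^ fe x) = cs H (w (fa x (Nat.sub 1 (fe m))) * ι q) := by
  obtain ⟨p, q, h1, h2, h3⟩ := h
  rcases fe_le m with e | e <;> rw [e]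
  · exact ⟨p, q, h1, h2, h3⟩
  · refine ⟨q, p, h2, h1, ?_⟩
    rw [← cs_congr h3, mul_assoc, ← (Commute.refl t).mul_pow, C.tt, one_pow, mul_one]

/-- the value of the rest of a frame -/
def Fr (ι : M24 →* G) (t : G) : List ℕ → G → Prop
  | [], z => z = 1
  | c :: F, z => ∃ (g : M24) (z' : G), pc g.1 = c ∧ Fr ι t F z' ∧ z = t * ι g * z'

theorem pc_mul (g h : M24) : mul (pc g.1) (pc h.1) = pc (g * h).1 := mul_pc _ _
theorem pc_inv (g : M24) : inv (pc g.1) = pc (g⁻¹).1 := inv_pc _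

theorem exists_el {c : ℕ} (h : m24Err c = 0) : ∃ g : M24, pc g.1 = c :=
  let ⟨g, h1, h2⟩ := exists_of_m24Err h; ⟨⟨g, h1⟩, h2⟩

theorem mv_spec (C : Ctx H ι t w) {D Lt : List ℕ} {k : ℕ} (hD : ∀ f < k, Ft H ι t w (db D f))
    {ih : ℕ → ℕ → List ℕ → Bool} {m j : ℕ} {u : M24} {F : List ℕ} {z : G} (hF : Fr ι t F z)
    (h : mv D Lt k ih m j (pc u.1) F = true) : ∃ (j' : ℕ) (u' : M24) (F' : List ℕ) (z' : G),
      Fr ι t F' z' ∧ ih j' (pc u'.1) F' = true ∧ cs H (w j * ι u * z) = cs H (w j' * ι u' * z') := by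
  simp only [mv, force_eq] at h
  cases hm : Nat.ble (nat_lit 8192) m
  · rw [hm, cond_false, Bool.and_eq_true, Bool.and_eq_true, Nat.ble_eq, Nat.beq_eq] at h
    obtain ⟨⟨h1, rfl⟩, h⟩ := h
    obtain ⟨p, p', e1, e2, e3⟩ := (hD _ h1).dir C m
    rw [← e1, show fp _ (Nat.sub (nat_lit 1) (fe m)) = _ from e2.symm, pc_inv, pc_mul, pc_mul] at h
    rcases fe_le (db D (Nat.shiftRight m (nat_lit 1))) with e | e
    · rw [e] at h e3
      refine ⟨_, _, F, z, hF, h, ?_⟩
      rw [map_mul, ← mul_assoc, mul_assoc _ _ z, mul_assoc _ _ z]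
      refine Eq.trans ?_ (cs_congr e3 _)
      rw [map_mul, map_inv]; exact congrArg (cs H) (by group)
    · rw [e] at h e3
      rw [show Nat.beq 1 (nat_lit 0) = false from rfl, cond_false, Bool.and_eq_true, Nat.beq_eq] at h
      cases F with
      | nil => exact absurd h.2 (by simp)
      | cons c F =>
        obtain ⟨g, z', rfl, h4, rfl⟩ := hF
        have h5 := h.2
        simp only [pc_mul] at h5
        refine ⟨_, _, F, z', h4, h5, ?_⟩
        have h6 := C.cm _ (fix_of_fx h.1)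
        rw [map_mul, map_mul, ← mul_assoc (w _), ← mul_assoc (w _), mul_assoc _ (ι g) z',
          mul_assoc _ (ι g) z', mul_assoc _ _ (ι g * z')]
        refine Eq.trans ?_ (cs_congr e3 _)
        rw [pow_one, mul_assoc _ t, ← mul_assoc t (ι (p⁻¹ * u)), ← h6, map_mul, map_inv]
        exact congrArg (cs H) (by group)
  · rw [hm, cond_true, Bool.and_eq_true] at h
    obtain ⟨h1, h⟩ := h
    simp only [litOK, Bool.and_eq_true, Bool.or_eq_true, Nat.beq_eq] at h1
    obtain ⟨g, hg⟩ := exists_el h1.1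
    rw [← hg] at h h1
    rw [pc_mul] at h
    refine ⟨_, _, F, z, hF, h, ?_⟩
    have : cs H (w j) = cs H (w j * ι g) := by
      rw [cs_eq]
      rcases h1.2 with rfl | ⟨rfl, h4⟩
      · rw [C.w0]; simpa using C.le ⟨g, rfl⟩
      · rw [C.w1, ← C.cm _ (fix_of_fx h4)]; simpa using C.le ⟨g, rfl⟩
    rw [map_mul, ← mul_assoc, mul_assoc _ _ z, mul_assoc _ _ z]
    exact cs_congr this _

theorem walk_spec (C : Ctx H ι t w) {D Lt : List ℕ} {k b q : ℕ}
    (hD : ∀ f < k, Ft H ι t w (db D f)) (n : ℕ) {ms j : ℕ} {u : M24} {F : List ℕ} {z : G}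
    (hF : Fr ι t F z) (h : walk D Lt k b q n ms j (pc u.1) F = true) :
    ∃ u' : M24, pc u'.1 = q ∧ cs H (w j * ι u * z) = cs H (w b * ι u') := by
  induction n generalizing ms j u F z with
  | zero =>
    have e : walk D Lt k b q 0 ms j (pc u.1) F =
      (Nat.beq j b && (Nat.beq (pc u.1) q && F.isEmpty)) := rfl
    simp only [e, Bool.and_eq_true, Nat.beq_eq, List.isEmpty_iff] at h
    obtain ⟨rfl, h1, rfl⟩ := h
    exact ⟨u, h1, by rw [show z = 1 from hF, mul_one]⟩
  | succ n ih =>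
    have e : walk D Lt k b q (n + 1) ms j (pc u.1) F = force (Nat.land ms 16383) fun m =>
      force (Nat.shiftRight ms 14) fun ms' => mv D Lt k (walk D Lt k b q n ms') m j (pc u.1) F := rfl
    rw [e, force_eq, force_eq] at h
    obtain ⟨j', u', F', z', h1, h2, h3⟩ := mv_spec C hD hF h
    obtain ⟨u'', h4, h5⟩ := ih h1 h2
    exact ⟨u'', h4, h3.trans h5⟩

/-- a correct frame -/
def FrOK (ι : M24 →* G) (t : G) (f : ℕ × ℕ × List ℕ) : Prop :=
  ∃ (g : M24) (z : G), pc g.1 = f.2.1 ∧ Fr ι t f.2.2 z ∧ t ^ f.1 = ι g * z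

theorem chk_spec (C : Ctx H ι t w) {D P Lt : List ℕ} {FT : List (ℕ × ℕ × List ℕ)}
    (hF : ∀ f ∈ FT, FrOK ι t f) {k : ℕ} (hD : ∀ f < k, Ft H ι t w (db D f))
    (h : chk D P Lt FT k = true) : Ft H ι t w (db D k) := by
  simp only [chk, force_eq, Bool.and_eq_true, Nat.beq_eq] at h
  obtain ⟨⟨h1, h2⟩, h3⟩ := h
  obtain ⟨p, hp⟩ := exists_el h1
  obtain ⟨g, z, e1, e2, e3⟩ : FrOK ι t (FT.getD (Nat.land (db P k) (nat_lit 15)) (0, one, [])) := by
    rcases lt_or_ge (Nat.land (db P k) (nat_lit 15)) FT.length with c | c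
    · rw [List.getD_eq_getElem _ _ c]; exact hF _ (List.getElem_mem c)
    · rw [List.getD_eq_default _ _ c]; exact ⟨1, 1, pc_one, rfl, by simp⟩
  rw [← hp, ← e1, pc_mul] at h3
  obtain ⟨u, h4, h5⟩ := walk_spec C hD _ e2 h3
  refine ⟨p, u, hp, h4, Eq.trans ?_ h5⟩
  rw [← h2, e3, map_mul]; exact congrArg (cs H) (by group)

theorem all_facts (C : Ctx H ι t w) {D P Lt : List ℕ} {FT : List (ℕ × ℕ × List ℕ)}
    (hF : ∀ f ∈ FT, FrOK ι t f) {lo n : ℕ} (hD : ∀ f < lo, Ft H ι t w (db D f))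
    (h : rng (chk D P Lt FT) lo n = true) : ∀ f < lo + n, Ft H ι t w (db D f) := by
  intro f
  induction f using Nat.strong_induction_on with
  | _ f ih =>
    intro hf
    rcases lt_or_ge f lo with c | c
    · exact hD f c
    · exact chk_spec C hF (fun g hg => ih g hg (hg.trans hf)) (rng_spec h c hf)

/-! ### rows -/

/-- the search with a counter -/
noncomputable def bfsC (act : ℕ → ℕ → ℕ) (Gs : List ℕ) (fin : ℕ → Tr → ℕ) (fuel : ℕ) :
    ℕ → List ℕ → Tr → ℕ :=
  Nat.rec (motive := fun _ => ℕ → List ℕ → Tr → ℕ) (fun _ _ _ => nat_lit 0)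
    (fun _ ih c st t => List.rec (motive := fun _ => ℕ) (fin c t)
      (fun x st' _ => force (Nat.succ c) fun c' => bfsStep act x (ih c') Gs st' t) st) fuel

theorem bfsC_spec (act : ℕ → ℕ → ℕ) (Gs : List ℕ) (fin : ℕ → Tr → ℕ) (R : ℕ → Prop)
    (hR : ∀ x, R x → ∀ g ∈ Gs, R (act g x)) (fuel c : ℕ) (acc st : List ℕ) (t : Tr)
    (hn : (acc ++ st).Nodup) (hf : ∀ y, Tr.find y t = true ↔ y ∈ acc ++ st) (hs : ∀ y ∈ st, R y)
    (hv : bfsC act Gs fin fuel c st t ≠ 0) :
    ∃ L t', fin (c + L.length) t' ≠ 0 ∧ (L ++ acc).Nodup ∧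
      (∀ y, Tr.find y t' = true ↔ y ∈ L ++ acc) ∧ ∀ y ∈ L, R y := by
  induction fuel generalizing c acc st t with
  | zero => exact absurd rfl hv
  | succ fuel ih =>
    cases st with
    | nil =>
      rw [List.append_nil] at hn hf
      exact ⟨[], t, hv, hn, hf, by simp⟩
    | cons x st =>
      have e : bfsC act Gs fin (fuel + 1) c (x :: st) t
        = force (c + 1) fun c' => bfsStep act x (bfsC act Gs fin fuel c') Gs st t := rfl
      have hp : ∀ l : List ℕ, (acc ++ x :: l).Perm ((x :: acc) ++ l) := fun l => List.perm_middle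
      obtain ⟨st', t', h1, h2, h3, -, -, h6⟩ := bfsStep_spec act x
        (bfsC act Gs fin fuel (c + 1)) Gs (x :: acc) st t ((hp st).nodup_iff.1 hn)
        (fun y => by rw [hf, (hp st).mem_iff])
      rw [e, force_eq, h1] at hv
      have hx := hs x List.mem_cons_self
      obtain ⟨L, t'', k1, k2, k3, k4⟩ := ih (c + 1) (x :: acc) st' t' h2 h3 (fun y hy => by
        rcases h6 y hy with h7 | ⟨g, hg, rfl⟩
        · exact hs y (List.mem_cons_of_mem _ h7)
        · exact hR x hx g hg) hv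
      refine ⟨L ++ [x], t'', by rwa [List.length_append, List.length_singleton, add_comm L.length,
        ← add_assoc], by simpa using k2, by simpa using k3, fun y hy => ?_⟩
      rcases List.mem_append.1 hy with h7 | h7
      · exact k4 y h7
      · exact List.mem_singleton.1 h7 ▸ hx

/-- the trio at the start of a move -/
noncomputable def rep (D : List ℕ) (m : ℕ) (_ : ℕ) : ℕ :=
  actF (nat_lit 3) (mat (fp (db D (Nat.shiftRight m (nat_lit 1))) (fe m))) c0

/-- the searches for all targets -/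
noncomputable def rounds (D Gs : List ℕ) (gs : List (ℕ × ℕ × List ℕ)) : Tr → ℕ :=
  List.rec (motive := fun _ => Tr → ℕ) (fun _ => nat_lit 1)
    (fun g _ ih t => bfsStep (rep D) (nat_lit 0) (bfsC (actF (nat_lit 3)) Gs
      (fun c t' => cond (Nat.beq c g.2.1) (ih t') (nat_lit 0)) (nat_lit 4000) (nat_lit 0))
      g.2.2 [] t) gs

/-- the permutation of a fact about a stabiliser -/
noncomputable def sg (D : List ℕ) (f : ℕ) : ℕ :=
  force (db D f) fun x => force (fp x (nat_lit 0)) fun p => force (inv p) fun pi =>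
    force (mul (fp x (nat_lit 1)) pi) mat

/-- the check of a row -/
noncomputable def rowOK (D : List ℕ) (k m i : ℕ) (fs : List ℕ) (gs : List (ℕ × ℕ × List ℕ)) : Bool :=
  (fs.all fun f => Nat.ble (Nat.succ f) k && force (db D f) fun x =>
    Nat.beq (fe x) (nat_lit 0) && (Nat.beq (fa x (nat_lit 0)) i && Nat.beq (fa x (nat_lit 1)) i)) &&
  ((gs.all fun g => Nat.ble (Nat.succ g.1) m && g.2.2.all fun a =>
    Nat.ble (Nat.succ (Nat.shiftRight a (nat_lit 1))) k &&
    force (db D (Nat.shiftRight a (nat_lit 1))) fun x => Nat.beq (fe x) (nat_lit 1) &&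
      (Nat.beq (fa x (fe a)) i &&
        Nat.beq (fa x (Nat.sub (nat_lit 1) (fe a))) g.1)) &&
  (Nat.beq (gs.map fun g => g.2.1).sum (nat_lit 3795) &&
    Nat.ble (nat_lit 1) (forceL (mapL (sg D) fs) fun Gs => rounds D Gs gs Tr.leaf)))

theorem rounds_spec {D Gs : List ℕ} (P : Ω → ℕ → Prop) (gs : List (ℕ × ℕ × List ℕ))
    (hG : ∀ c ∈ Gs, ∃ g : M24, mat (pc g.1) = c ∧ ∀ x j, P x j → P (g • x) j)
    (hg : ∀ g ∈ gs, ∀ a ∈ g.2.2, ∃ x, code x = rep D a 0 ∧ P x g.1)
    {acc : List ℕ} {t : Tr} {σ : (ℕ → ℤ) → ℤ} (hn : acc.Nodup)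
    (hf : ∀ y, Tr.find y t = true ↔ y ∈ acc) (h : Part code P acc σ) (hv : rounds D Gs gs t ≠ 0) :
    ∃ L, L.length = acc.length + (gs.map fun g => g.2.1).sum ∧
      Part code P L fun v => σ v + (gs.map fun g => (g.2.1 : ℤ) * v g.1).sum := by
  induction gs generalizing acc t σ with
  | nil => exact ⟨acc, rfl, by simpa using h⟩
  | cons g gs ih =>
    have e : rounds D Gs (g :: gs) t = bfsStep (rep D) 0 (bfsC (actF 3) Gs
      (fun c t' => cond (Nat.beq c g.2.1) (rounds D Gs gs t') 0) 4000 0) g.2.2 [] t := rfl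
    obtain ⟨st, t', h1, h2, h3, -, -, h6⟩ := bfsStep_spec (rep D) 0 (bfsC (actF 3) Gs
      (fun c t' => cond (Nat.beq c g.2.1) (rounds D Gs gs t') 0) 4000 0) g.2.2 acc [] t
      (by simpa using hn) (by simpa using hf)
    rw [e, h1] at hv
    obtain ⟨L, t'', k1, k2, k3, k4⟩ := bfsC_spec _ _ _ (fun y => ∃ x, code x = y ∧ P x g.1)
      (by
        rintro _ ⟨x, rfl, hx⟩ c hc
        obtain ⟨g', rfl, h7⟩ := hG c hc
        exact ⟨_, (act_code g' x).symm, h7 _ _ hx⟩) _ _ _ _ _ h2 h3 (fun y hy => by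
        rcases h6 y hy with h7 | ⟨a, ha, rfl⟩
        · simp at h7
        · exact hg g List.mem_cons_self a ha) hv
    cases hc : Nat.beq (0 + L.length) g.2.1
    · rw [hc] at k1; exact absurd rfl k1
    · rw [hc] at k1
      rw [Nat.beq_eq, zero_add] at hc
      obtain ⟨L', k5, k6⟩ := ih (fun g' h' => hg g' (List.mem_cons_of_mem _ h')) k2 k3
        (h.append g.1 L k2 k4) k1
      refine ⟨L', by rw [k5, List.length_append, hc, List.map_cons, List.sum_cons]; ring, ?_⟩
      convert k6 using 2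
      rw [List.map_cons, List.sum_cons, hc]; ring

theorem row_spec (C : Ctx H ι t w) {D : List ℕ} {k m i : ℕ} {fs : List ℕ}
    {gs : List (ℕ × ℕ × List ℕ)} (hD : ∀ f < k, Ft H ι t w (db D f))
    (h : rowOK D k m i fs gs = true) :
    Row H ι o t m w (w i) (gs.map fun g => (g.1, g.2.1)) := by
  simp only [rowOK, force_eq, forceL_eq, mapL_eq, Bool.and_eq_true, List.all_eq_true, Nat.beq_eq,
    Nat.ble_eq] at h
  obtain ⟨h1, h2, h3, h4⟩ := h
  obtain ⟨L, k1, k2⟩ := rounds_spec (D := D) (Gs := fs.map (sg D))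
    (fun x j => j < m ∧ Nb H ι o t (w i) x (w j)) gs (fun c hc => by
      obtain ⟨f, hf, rfl⟩ := List.mem_map.1 hc
      obtain ⟨e0, e1, e2, e3⟩ := h1 f hf
      obtain ⟨p, q, e4, e5, e6⟩ := hD f e0
      refine ⟨q * p⁻¹, ?_, fun x j hx => ⟨hx.1, hx.2.smul ?_⟩⟩
      · rw [← pc_mul, ← pc_inv, e4, e5]; simp only [sg, force_eq]
      · change cs H (w (fa _ (nat_lit 0)) * _ * _) = cs H (w (fa _ (nat_lit 1)) * _) at e6
        rw [e1, e2, e3] at e6
        rw [map_mul, ← mul_assoc, ← cs_congr e6, map_inv]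
        exact congrArg (cs H) (by rw [show t ^ (nat_lit 0) = 1 from pow_zero t]; group)) (fun g hg a ha => by
      obtain ⟨e0, e1, e2, e3⟩ := (h2 g hg).2 a ha
      obtain ⟨p, q, e4, e5, e6⟩ := (hD _ e0).dir C a
      refine ⟨p • o, ?_, (h2 g hg).1, p, q, rfl, ?_⟩
      · rw [← act_code, code_o, e4]; rfl
      · rw [← e2, ← e3]
        rw [show fe (db D (Nat.shiftRight a (nat_lit 1))) = 1 from e1, pow_one] at e6
        exact e6) (acc := []) (t := Tr.leaf) (σ := fun _ => 0) List.nodup_nil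
    (fun y => by simp [show Tr.find y Tr.leaf = false from rfl])
    ⟨∅, fun _ => 0, by simp, rfl, by simp⟩ (by omega)
  obtain ⟨ty, k3, k4⟩ := k2.full (by rw [k1, card_Ω, h3]; rfl)
  exact ⟨ty, k3, fun v => by rw [k4, List.map_map, zero_add]; rfl⟩

end Cfsg.Agent.Comp.J4
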