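import Cfsg.Agent.Comp.J4.Data

set_option autoImplicit false
set_option maxRecDepth 100000

namespace Cfsg.Agent.Comp.J4
open Cfsg Cfsg.Agent.Comp

theorem f0 : rng (chk D P Lt FT) (nat_lit 21) (nat_lit 89) = true := by decide +kernel

theorem f1 : rng (chk D P Lt FT) (nat_lit 110) (nat_lit 88) = true := by decide +kernel

theorem f2 : rng (chk D P Lt FT) (nat_lit 198) (nat_lit 84) = true := by decide +kernel

theorem f3 : rng (chk D P Lt FT) (nat_lit 282) (nat_lit 81) = true := by decide +kernel

theorem f4 : rng (chk D P Lt FT) (nat_lit 363) (nat_lit 82) = true := by decide +kernel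

theorem f5 : rng (chk D P Lt FT) (nat_lit 445) (nat_lit 82) = true := by decide +kernel

end Cfsg.Agent.Comp.J4
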