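import Cfsg.Agent.Comp.J4.Data

set_option autoImplicit false
set_option maxRecDepth 100000

namespace Cfsg.Agent.Comp.J4
open Cfsg Cfsg.Agent.Comp

theorem f6 : rng (chk D P Lt FT) (nat_lit 527) (nat_lit 95) = true := by decide +kernel

theorem f7 : rng (chk D P Lt FT) (nat_lit 622) (nat_lit 93) = true := by decide +kernel

theorem f8 : rng (chk D P Lt FT) (nat_lit 715) (nat_lit 65) = true := by decide +kernel

theorem f9 : rng (chk D P Lt FT) (nat_lit 780) (nat_lit 81) = true := by decide +kernel

theorem f10 : rng (chk D P Lt FT) (nat_lit 861) (nat_lit 87) = true := by decide +kernel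

theorem f11 : rng (chk D P Lt FT) (nat_lit 948) (nat_lit 94) = true := by decide +kernel

end Cfsg.Agent.Comp.J4
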