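import Cfsg.Agent.Comp.J4.Data

set_option autoImplicit false
set_option maxRecDepth 100000

namespace Cfsg.Agent.Comp.J4
open Cfsg Cfsg.Agent.Comp

theorem f12 : rng (chk D P Lt FT) (nat_lit 1042) (nat_lit 101) = true := by decide +kernel

theorem f13 : rng (chk D P Lt FT) (nat_lit 1143) (nat_lit 105) = true := by decide +kernel

theorem f14 : rng (chk D P Lt FT) (nat_lit 1248) (nat_lit 108) = true := by decide +kernel

theorem f15 : rng (chk D P Lt FT) (nat_lit 1356) (nat_lit 110) = true := by decide +kernel

theorem f16 : rng (chk D P Lt FT) (nat_lit 1466) (nat_lit 109) = true := by decide +kernel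

theorem f17 : rng (chk D P Lt FT) (nat_lit 1575) (nat_lit 101) = true := by decide +kernel

end Cfsg.Agent.Comp.J4
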