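import Cfsg.Agent.Comp.J4.Data

set_option autoImplicit false
set_option maxRecDepth 100000

namespace Cfsg.Agent.Comp.J4
open Cfsg Cfsg.Agent.Comp

theorem f18 : rng (chk D P Lt FT) (nat_lit 1676) (nat_lit 96) = true := by decide +kernel

theorem f19 : rng (chk D P Lt FT) (nat_lit 1772) (nat_lit 101) = true := by decide +kernel

theorem f20 : rng (chk D P Lt FT) (nat_lit 1873) (nat_lit 51) = true := by decide +kernel

end Cfsg.Agent.Comp.J4
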