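import Cfsg.Agent.Comp.Word

/-!
Closed enumerations of double cosets `H g N`, where `N` is the image of a group `H₀` that acts
transitively on `Ω` and `t` commutes with the image of the stabiliser of `o`.
-/

set_option autoImplicit false

namespace Cfsg.Agent.Comp.J4

variable {G H₀ Ω : Type*} [Group G] [Group H₀] [MulAction H₀ Ω]

/-- the coset `H g` -/
def cs (H : Subgroup G) (g : G) : G ⧸ H := ((g⁻¹ : G) : G ⧸ H)

theorem cs_eq {H : Subgroup G} {a b : G} : cs H a = cs H b ↔ a * b⁻¹ ∈ H := by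
  unfold cs; rw [QuotientGroup.eq, inv_inv]

theorem cs_mul (H : Subgroup G) (a g : G) : cs H (a * g) = g⁻¹ • cs H a := by
  unfold cs; rw [mul_inv_rev]; rfl

theorem cs_congr {H : Subgroup G} {a b : G} (h : cs H a = cs H b) (g : G) :
    cs H (a * g) = cs H (b * g) := by rw [cs_mul, cs_mul, h]

theorem cs_surj (H : Subgroup G) (y : G ⧸ H) : ∃ g, y = cs H g := by
  induction y using QuotientGroup.induction_on with
  | H g => exact ⟨g⁻¹, by rw [cs, inv_inv]⟩

/-- the neighbour of `H a` at `x` lies in `H b N` -/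
def Nb (H : Subgroup G) (ι : H₀ →* G) (o : Ω) (t a : G) (x : Ω) (b : G) : Prop :=
  ∃ p q, p • o = x ∧ cs H (a * ι p * t) = cs H (b * ι q)

/-- the neighbours of `H a` -/
def Row [Fintype Ω] (H : Subgroup G) (ι : H₀ →* G) (o : Ω) (t : G) (m : ℕ) (w : ℕ → G) (a : G)
    (r : List (ℕ × ℕ)) : Prop :=
  ∃ ty : Ω → ℕ, (∀ x, ty x < m ∧ Nb H ι o t a x (w (ty x))) ∧
    ∀ v : ℕ → ℤ, ∑ x, v (ty x) = (r.map fun e => (e.2 : ℤ) * v e.1).sum

/-- a closed enumeration -/
structure Closed [Fintype Ω] (H : Subgroup G) (ι : H₀ →* G) (o : Ω) (t : G) (m : ℕ) (w : ℕ → G)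
    (rows : List (List (ℕ × ℕ))) : Prop where
  cm : ∀ u, u • o = o → ι u * t = t * ι u
  le : ι.range ≤ H
  pos : 0 < m
  tr : ∀ x : Ω, ∃ h : H₀, h • o = x
  w0 : w 0 = 1
  row : ∀ i < m, Row H ι o t m w (w i) (rows.getD i [])
  gen : ∀ K : Subgroup G, ι.range ≤ K → t ∈ K → K = ⊤
  inv : t⁻¹ = t

variable {H : Subgroup G} {ι : H₀ →* G} {o : Ω} {t : G} {m : ℕ} {w : ℕ → G}
  {rows : List (List (ℕ × ℕ))}

theorem Nb.step (hc : ∀ u, u • o = o → ι u * t = t * ι u) {a b : G} {p : H₀}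
    (h : Nb H ι o t a (p • o) b) : ∃ k, cs H (a * ι p * t) = cs H (b * ι k) := by
  obtain ⟨p', q', h1, h2⟩ := h
  have h3 := hc (p'⁻¹ * p) (by rw [mul_smul, ← h1, inv_smul_smul])
  refine ⟨q' * (p'⁻¹ * p), ?_⟩
  rw [map_mul, ← mul_assoc, ← cs_congr h2, mul_assoc _ t, ← h3, map_mul, map_inv]
  congr 1; group

theorem Nb.smul {a b : G} {x : Ω} (h : Nb H ι o t a x b) {g : H₀} (hg : cs H (a * ι g) = cs H a) :
    Nb H ι o t a (g • x) b := by
  obtain ⟨p, q, h1, h2⟩ := h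
  refine ⟨g * p, q, by rw [mul_smul, h1], ?_⟩
  rw [← h2, map_mul, ← mul_assoc, mul_assoc _ _ t, cs_congr hg, mul_assoc]

variable [Fintype Ω]

theorem Closed.cover (D : Closed H ι o t m w rows) (g : G) :
    ∃ i < m, ∃ h, cs H g = cs H (w i * ι h) := by
  let X : Set (G ⧸ H) := {y | ∃ i < m, ∃ h, y = cs H (w i * ι h)}
  let M : Submonoid G :=
    { carrier := {g | ∀ y ∈ X, g⁻¹ • y ∈ X}
      one_mem' := fun y hy => by simpa using hy
      mul_mem' := fun {a b} ha hb y hy => by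
        rw [mul_inv_rev, mul_smul]; exact hb _ (ha _ hy) }
  have hι : ∀ k, ι k ∈ M := by
    rintro k _ ⟨i, hi, h, rfl⟩
    exact ⟨i, hi, h * k, by rw [← cs_mul, map_mul, mul_assoc]⟩
  have ht : t ∈ M := by
    rintro _ ⟨i, hi, h, rfl⟩
    obtain ⟨ty, h1, -⟩ := D.row i hi
    obtain ⟨h2, h3⟩ := h1 (h • o)
    obtain ⟨k, hk⟩ := h3.step D.cm
    exact ⟨_, h2, k, by rw [← cs_mul, hk]⟩
  let K : Subgroup G :=
    { carrier := {g | g ∈ M ∧ g⁻¹ ∈ M}
      one_mem' := ⟨M.one_mem, by simp⟩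
      mul_mem' := fun {a b} ha hb =>
        ⟨M.mul_mem ha.1 hb.1, by rw [mul_inv_rev]; exact M.mul_mem hb.2 ha.2⟩
      inv_mem' := fun {a} ha => ⟨ha.2, by simpa using ha.1⟩ }
  have hK : K = ⊤ := by
    refine D.gen K ?_ ⟨ht, by rw [D.inv]; exact ht⟩
    rintro _ ⟨k, rfl⟩
    exact ⟨hι k, by rw [← map_inv]; exact hι _⟩
  have hg : g ∈ K := hK ▸ Subgroup.mem_top g
  have := hg.1 (cs H (w 0 * ι 1)) ⟨0, D.pos, 1, rfl⟩
  rw [← cs_mul, D.w0, map_one, one_mul, one_mul] at this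
  exact this

theorem Closed.finite [Finite H₀] (D : Closed H ι o t m w rows) : Finite (G ⧸ H) := by
  refine Finite.of_surjective (fun e : Fin m × H₀ => cs H (w e.1 * ι e.2)) fun y => ?_
  obtain ⟨g, rfl⟩ := cs_surj H y
  obtain ⟨i, hi, h, e⟩ := D.cover g
  exact ⟨(⟨i, hi⟩, h), e.symm⟩

/-- a function on the cosets with values `v` on the double cosets and sum `σ` -/
def Fn (H : Subgroup G) (ι : H₀ →* G) [Fintype (G ⧸ H)] (m : ℕ) (w : ℕ → G) (v : List ℤ) (σ : ℤ) :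
    Prop :=
  ∃ f : G ⧸ H → ℤ, (∀ i < m, ∀ h, f (cs H (w i * ι h)) = v.getD i 0) ∧ ∑ y, f y = σ

omit [Fintype Ω] in
theorem Fn.zero [Fintype (G ⧸ H)] : Fn H ι m w [] 0 := ⟨fun _ => 0, fun _ _ _ => rfl, by simp⟩

/-- one step -/
def stepV (m : ℕ) (rows : List (List (ℕ × ℕ))) (v : List ℤ) (q : ℤ) : List ℤ :=
  (List.range m).map fun i =>
    ((rows.getD i []).map fun e => (e.2 : ℤ) * v.getD e.1 0).sum + if i = 0 then q else 0

theorem Closed.step [Fintype (G ⧸ H)] (D : Closed H ι o t m w rows)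
    (hne : ∀ i < m, i ≠ 0 → w i ∉ H) {v : List ℤ} {σ : ℤ} (q : ℤ) (h : Fn H ι m w v σ) :
    Fn H ι m w (stepV m rows v q) (Fintype.card Ω * σ + q) := by
  classical
  obtain ⟨f, hf, rfl⟩ := h
  choose r hr using D.tr
  refine ⟨fun y => ∑ x, f ((ι (r x) * t * (ι (r x))⁻¹)⁻¹ • y) +
    if y = cs H 1 then q else 0, fun i hi h => ?_, ?_⟩
  · obtain ⟨ty, h1, h2⟩ := D.row i hi
    rw [stepV, List.getD_eq_getElem _ _ (by simpa using hi), List.getElem_map, List.getElem_range,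
      ← h2 fun j => v.getD j 0, ← Equiv.sum_comp (MulAction.toPerm h) fun x => v.getD (ty x) 0]
    beta_reduce
    congr 1
    · refine Finset.sum_congr rfl fun x _ => ?_
      obtain ⟨h3, h4⟩ := h1 (h • x)
      obtain ⟨k, hk⟩ := Nb.step (p := h * r x) (b := w (ty (h • x))) D.cm
        (by rw [mul_smul, hr]; exact h4)
      rw [MulAction.toPerm_apply, ← hf _ h3 (k * (r x)⁻¹), map_mul, ← mul_assoc, ← cs_congr hk,
        ← cs_mul, map_mul, map_inv]
      congr 2; group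
    · by_cases h0 : i = 0
      · subst h0
        rw [if_pos rfl, if_pos]
        rw [cs_eq, D.w0]; simpa using D.le ⟨h, rfl⟩
      · rw [if_neg h0, if_neg]
        rw [cs_eq]
        intro e
        refine hne i hi h0 ?_
        have := mul_mem e (inv_mem (D.le ⟨h, rfl⟩ : ι h ∈ H))
        simpa using this
  · rw [Finset.sum_add_distrib, Finset.sum_comm]
    congr 1
    · refine (Finset.sum_congr rfl fun x _ =>
        Equiv.sum_comp (MulAction.toPerm (ι (r x) * t * (ι (r x))⁻¹)⁻¹) f).trans ?_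
      simp
    · simp

/-- several steps -/
def steps (n : ℤ) (m : ℕ) (rows : List (List (ℕ × ℕ))) : List ℤ → List ℤ × ℤ
  | [] => ([], 0)
  | q :: qs => (stepV m rows (steps n m rows qs).1 q, n * (steps n m rows qs).2 + q)

theorem Closed.steps [Fintype (G ⧸ H)] (D : Closed H ι o t m w rows)
    (hne : ∀ i < m, i ≠ 0 → w i ∉ H) {n : ℤ} (hn : (Fintype.card Ω : ℤ) = n) (qs : List ℤ) :
    Fn H ι m w (steps n m rows qs).1 (steps n m rows qs).2 := by
  induction qs with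
  | nil => exact Fn.zero
  | cons q qs ih => exact hn ▸ D.step hne q (hn ▸ ih)

theorem Closed.index [Fintype (G ⧸ H)] (D : Closed H ι o t m w rows) {v : List ℤ}
    {σ M : ℤ} {N : ℕ} (h : Fn H ι m w v σ) (h1 : ∀ i < m, v.getD i 0 = M) (h2 : σ = M * N)
    (h3 : M ≠ 0) : H.index = N := by
  obtain ⟨f, hf, e⟩ := h
  have h1 : ∀ y, f y = M := fun y => by
    obtain ⟨g, rfl⟩ := cs_surj H y
    obtain ⟨i, hi, h, e⟩ := D.cover g
    rw [← h1 i hi, ← hf i hi h, ← e]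
  rw [Finset.sum_congr rfl fun y _ => h1 y, h2, Finset.sum_const, Finset.card_univ,
    nsmul_eq_mul, mul_comm] at e
  rw [Subgroup.index, Nat.card_eq_fintype_card]
  exact_mod_cast mul_left_cancel₀ h3 e

/-- a part of a row -/
def Part (code : Ω → ℕ) (P : Ω → ℕ → Prop) (L : List ℕ) (σ : (ℕ → ℤ) → ℤ) : Prop :=
  ∃ (S : Finset Ω) (ty : Ω → ℕ), (∀ x ∈ S, code x ∈ L ∧ P x (ty x)) ∧ S.card = L.length ∧
    ∀ v : ℕ → ℤ, ∑ x ∈ S, v (ty x) = σ v

omit [Fintype Ω] in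
theorem Part.append {code : Ω → ℕ} {P : Ω → ℕ → Prop} {L : List ℕ} {σ : (ℕ → ℤ) → ℤ}
    (h : Part code P L σ) (j : ℕ) (L' : List ℕ) (hn : (L' ++ L).Nodup)
    (hP : ∀ y ∈ L', ∃ x, code x = y ∧ P x j) :
    Part code P (L' ++ L) fun v => L'.length * v j + σ v := by
  classical
  induction L' with
  | nil => simpa using h
  | cons y L' ih =>
    rw [List.cons_append, List.nodup_cons] at hn
    obtain ⟨S, ty, h1, h2, h3⟩ := ih hn.2 fun z hz => hP z (List.mem_cons_of_mem _ hz)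
    obtain ⟨x, rfl, hx⟩ := hP y List.mem_cons_self
    have hS : x ∉ S := fun e => hn.1 (h1 x e).1
    have hu : ∀ z ∈ S, Function.update ty x j z = ty z := fun z hz =>
      Function.update_of_ne (fun e : z = x => hS (e ▸ hz)) _ _
    refine ⟨insert x S, Function.update ty x j, fun z hz => ?_, ?_, fun v => ?_⟩
    · rcases Finset.mem_insert.1 hz with rfl | hz
      · exact ⟨List.mem_cons_self, by rwa [Function.update_self]⟩
      · exact ⟨List.mem_cons_of_mem _ (h1 z hz).1, by rw [hu z hz]; exact (h1 z hz).2⟩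
    · rw [Finset.card_insert_of_notMem hS, h2]; rfl
    · rw [Finset.sum_insert hS, Function.update_self,
        Finset.sum_congr rfl fun z hz => by rw [hu z hz], h3, List.length_cons]
      push_cast; ring

theorem Part.full {code : Ω → ℕ} {P : Ω → ℕ → Prop} {L : List ℕ} {σ : (ℕ → ℤ) → ℤ}
    (h : Part code P L σ) (hl : L.length = Fintype.card Ω) :
    ∃ ty : Ω → ℕ, (∀ x, P x (ty x)) ∧ ∀ v : ℕ → ℤ, ∑ x, v (ty x) = σ v := by
  obtain ⟨S, ty, h1, h2, h3⟩ := h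
  obtain rfl := Finset.eq_univ_of_card S (h2.trans hl)
  exact ⟨ty, fun x => (h1 x (Finset.mem_univ x)).2, h3⟩

end Cfsg.Agent.Comp.J4
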