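import Cfsg.Agent.Comp.J4.Data

set_option autoImplicit false
set_option maxRecDepth 100000

namespace Cfsg.Agent.Comp.J4
open Cfsg Cfsg.Agent.Comp

def g0 : List (Nat × Nat × List Nat) :=
  [(nat_lit 1, nat_lit 3795, [nat_lit 0])]

theorem r0 : rowOK D (nat_lit 1924) (nat_lit 20) (nat_lit 0) [nat_lit 1888, nat_lit 1889] g0 = true := by
  decide +kernel

def g1 : List (Nat × Nat × List Nat) :=
  [(nat_lit 0, nat_lit 1, [nat_lit 1]),
   (nat_lit 1, nat_lit 98, [nat_lit 40, nat_lit 42]),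
   (nat_lit 2, nat_lit 1008, [nat_lit 2]),
   (nat_lit 4, nat_lit 2688, [nat_lit 6])]

theorem r1 : rowOK D (nat_lit 1924) (nat_lit 20) (nat_lit 1) [nat_lit 1890, nat_lit 1891] g1 = true := by
  decide +kernel

def g2 : List (Nat × Nat × List Nat) :=
  [(nat_lit 1, nat_lit 12, [nat_lit 3]),
   (nat_lit 2, nat_lit 103, [nat_lit 64, nat_lit 66, nat_lit 68, nat_lit 70, nat_lit 62]),
   (nat_lit 3, nat_lit 320, [nat_lit 143, nat_lit 78, nat_lit 82, nat_lit 4]),
   (nat_lit 4, nat_lit 480, [nat_lit 136, nat_lit 96, nat_lit 94]),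
   (nat_lit 5, nat_lit 192, [nat_lit 8]),
   (nat_lit 15, nat_lit 384, [nat_lit 829]),
   (nat_lit 16, nat_lit 768, [nat_lit 1225]),
   (nat_lit 17, nat_lit 1536, [nat_lit 2825, nat_lit 34, nat_lit 3087, nat_lit 2859])]

theorem r2 : rowOK D (nat_lit 1924) (nat_lit 20) (nat_lit 2) [nat_lit 1892, nat_lit 1893] g2 = true := by
  decide +kernel

def g3 : List (Nat × Nat × List Nat) :=
  [(nat_lit 2, nat_lit 80, [nat_lit 83, nat_lit 5, nat_lit 79, nat_lit 142]),
   (nat_lit 3, nat_lit 19, [nat_lit 86, nat_lit 88, nat_lit 84]),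
   (nat_lit 4, nat_lit 96, [nat_lit 140, nat_lit 138]),
   (nat_lit 5, nat_lit 48, [nat_lit 174]),
   (nat_lit 15, nat_lit 288, [nat_lit 831, nat_lit 777]),
   (nat_lit 16, nat_lit 960, [nat_lit 1249, nat_lit 1139, nat_lit 1115, nat_lit 1295, nat_lit 1247]),
   (nat_lit 17, nat_lit 1728, [nat_lit 3289, nat_lit 2641, nat_lit 3263, nat_lit 3293, nat_lit 3217, nat_lit 3033, nat_lit 1404, nat_lit 3135, nat_lit 1406, nat_lit 2625, nat_lit 1408]),
   (nat_lit 18, nat_lit 384, [nat_lit 3314, nat_lit 3312]),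
   (nat_lit 19, nat_lit 192, [nat_lit 38])]

theorem r3 : rowOK D (nat_lit 1924) (nat_lit 20) (nat_lit 3) [nat_lit 1894, nat_lit 1895] g3 = true := by
  decide +kernel

def g4 : List (Nat × Nat × List Nat) :=
  [(nat_lit 1, nat_lit 2, [nat_lit 7]),
   (nat_lit 2, nat_lit 30, [nat_lit 95, nat_lit 137, nat_lit 116]),
   (nat_lit 3, nat_lit 24, [nat_lit 141, nat_lit 139]),
   (nat_lit 4, nat_lit 431, [nat_lit 157, nat_lit 162, nat_lit 158, nat_lit 156, nat_lit 130, nat_lit 144, nat_lit 148, nat_lit 134, nat_lit 104, nat_lit 112, nat_lit 154, nat_lit 164, nat_lit 132, nat_lit 108, nat_lit 166, nat_lit 98, nat_lit 120, nat_lit 124, nat_lit 150, nat_lit 106, nat_lit 122, nat_lit 110, nat_lit 160, nat_lit 100, nat_lit 152, nat_lit 146, nat_lit 126, nat_lit 128, nat_lit 155, nat_lit 114, nat_lit 102]),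
   (nat_lit 5, nat_lit 48, [nat_lit 180, nat_lit 184, nat_lit 178]),
   (nat_lit 6, nat_lit 36, [nat_lit 234, nat_lit 232]),
   (nat_lit 9, nat_lit 24, [nat_lit 417]),
   (nat_lit 10, nat_lit 48, [nat_lit 353]),
   (nat_lit 13, nat_lit 24, [nat_lit 507]),
   (nat_lit 14, nat_lit 168, [nat_lit 619, nat_lit 625, nat_lit 597, nat_lit 581, nat_lit 585]),
   (nat_lit 15, nat_lit 384, [nat_lit 672, nat_lit 680, nat_lit 656, nat_lit 674, nat_lit 668, nat_lit 670, nat_lit 662, nat_lit 678, nat_lit 664, nat_lit 658, nat_lit 676, nat_lit 660]),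
   (nat_lit 16, nat_lit 816, [nat_lit 1339, nat_lit 1227, nat_lit 1317, nat_lit 1331, nat_lit 1245, nat_lit 1371, nat_lit 1209, nat_lit 846, nat_lit 1361, nat_lit 1359, nat_lit 1253, nat_lit 1275, nat_lit 1391, nat_lit 1329, nat_lit 1399, nat_lit 850, nat_lit 1203, nat_lit 848, nat_lit 1387, nat_lit 1303]),
   (nat_lit 17, nat_lit 1664, [nat_lit 1478, nat_lit 1454, nat_lit 1414, nat_lit 1470, nat_lit 1448, nat_lit 1464, nat_lit 1456, nat_lit 1444, nat_lit 1476, nat_lit 1430, nat_lit 1432, nat_lit 1446, nat_lit 1420, nat_lit 1412, nat_lit 1428, nat_lit 1474, nat_lit 2579, nat_lit 1468, nat_lit 1452, nat_lit 1436, nat_lit 1462, nat_lit 1410, nat_lit 1466, nat_lit 1416, nat_lit 1422, nat_lit 1460, nat_lit 1434, nat_lit 1450, nat_lit 1440, nat_lit 1438, nat_lit 1458, nat_lit 1472, nat_lit 1424, nat_lit 1442, nat_lit 1418, nat_lit 1426]),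
   (nat_lit 18, nat_lit 96, [nat_lit 36, nat_lit 3322, nat_lit 3316])]

theorem r4 : rowOK D (nat_lit 1924) (nat_lit 20) (nat_lit 4) [nat_lit 1896, nat_lit 1897] g4 = true := by
  decide +kernel

end Cfsg.Agent.Comp.J4
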