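import Cfsg.Agent.Comp.J4.Data

set_option autoImplicit false
set_option maxRecDepth 100000

namespace Cfsg.Agent.Comp.J4
open Cfsg Cfsg.Agent.Comp

def g5 : List (Nat × Nat × List Nat) :=
  [(nat_lit 2, nat_lit 32, [nat_lit 9]),
   (nat_lit 3, nat_lit 32, [nat_lit 175]),
   (nat_lit 4, nat_lit 128, [nat_lit 185, nat_lit 179, nat_lit 190]),
   (nat_lit 5, nat_lit 267, [nat_lit 220, nat_lit 212, nat_lit 194, nat_lit 218, nat_lit 206, nat_lit 204, nat_lit 200, nat_lit 208, nat_lit 222, nat_lit 214, nat_lit 202, nat_lit 196, nat_lit 216, nat_lit 210, nat_lit 198]),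
   (nat_lit 6, nat_lit 24, [nat_lit 10, nat_lit 238]),
   (nat_lit 9, nat_lit 48, [nat_lit 412, nat_lit 395, nat_lit 393]),
   (nat_lit 10, nat_lit 96, [nat_lit 384, nat_lit 386, nat_lit 382]),
   (nat_lit 14, nat_lit 48, [nat_lit 532, nat_lit 28]),
   (nat_lit 15, nat_lit 368, [nat_lit 686, nat_lit 30, nat_lit 688, nat_lit 682, nat_lit 684]),
   (nat_lit 16, nat_lit 704, [nat_lit 1327, nat_lit 1357, nat_lit 854, nat_lit 1201, nat_lit 1369, nat_lit 852, nat_lit 858, nat_lit 856]),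
   (nat_lit 17, nat_lit 1792, [nat_lit 1506, nat_lit 1500, nat_lit 1480, nat_lit 1504, nat_lit 1492, nat_lit 1490, nat_lit 1486, nat_lit 1496, nat_lit 1494, nat_lit 1502, nat_lit 1488, nat_lit 1482, nat_lit 1498, nat_lit 1484]),
   (nat_lit 18, nat_lit 256, [nat_lit 3326, nat_lit 3328, nat_lit 3324])]

theorem r5 : rowOK D (nat_lit 1924) (nat_lit 20) (nat_lit 5) [nat_lit 1898, nat_lit 1899, nat_lit 1900] g5 = true := by
  decide +kernel

def g6 : List (Nat × Nat × List Nat) :=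
  [(nat_lit 4, nat_lit 384, [nat_lit 235, nat_lit 233]),
   (nat_lit 5, nat_lit 96, [nat_lit 239, nat_lit 11]),
   (nat_lit 6, nat_lit 99, [nat_lit 254, nat_lit 258, nat_lit 260, nat_lit 256, nat_lit 252, nat_lit 248, nat_lit 242, nat_lit 250, nat_lit 244, nat_lit 246]),
   (nat_lit 7, nat_lit 8, [nat_lit 12]),
   (nat_lit 8, nat_lit 8, [nat_lit 294]),
   (nat_lit 9, nat_lit 32, [nat_lit 399]),
   (nat_lit 10, nat_lit 288, [nat_lit 388, nat_lit 369, nat_lit 340]),
   (nat_lit 14, nat_lit 192, [nat_lit 583, nat_lit 631]),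
   (nat_lit 15, nat_lit 384, [nat_lit 696, nat_lit 690, nat_lit 694, nat_lit 692]),
   (nat_lit 16, nat_lit 768, [nat_lit 862, nat_lit 860]),
   (nat_lit 17, nat_lit 1536, [nat_lit 1510, nat_lit 1512, nat_lit 1508])]

theorem r6 : rowOK D (nat_lit 1924) (nat_lit 20) (nat_lit 6) [nat_lit 1901, nat_lit 1902, nat_lit 1903] g6 = true := by
  decide +kernel

def g7 : List (Nat × Nat × List Nat) :=
  [(nat_lit 6, nat_lit 144, [nat_lit 13]),
   (nat_lit 7, nat_lit 87, [nat_lit 276, nat_lit 278, nat_lit 274]),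
   (nat_lit 8, nat_lit 12, [nat_lit 14]),
   (nat_lit 9, nat_lit 672, [nat_lit 16, nat_lit 414]),
   (nat_lit 10, nat_lit 192, [nat_lit 18]),
   (nat_lit 14, nat_lit 1152, [nat_lit 534]),
   (nat_lit 16, nat_lit 1536, [nat_lit 32])]

theorem r7 : rowOK D (nat_lit 1924) (nat_lit 20) (nat_lit 7) [nat_lit 1904, nat_lit 1905] g7 = true := by
  decide +kernel

def g8 : List (Nat × Nat × List Nat) :=
  [(nat_lit 6, nat_lit 336, [nat_lit 295]),
   (nat_lit 7, nat_lit 28, [nat_lit 15]),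
   (nat_lit 8, nat_lit 71, [nat_lit 304, nat_lit 306, nat_lit 302]),
   (nat_lit 9, nat_lit 672, [nat_lit 318]),
   (nat_lit 15, nat_lit 2688, [nat_lit 698])]

theorem r8 : rowOK D (nat_lit 1924) (nat_lit 20) (nat_lit 8) [nat_lit 1906, nat_lit 1907] g8 = true := by
  decide +kernel

def g9 : List (Nat × Nat × List Nat) :=
  [(nat_lit 4, nat_lit 48, [nat_lit 416]),
   (nat_lit 5, nat_lit 36, [nat_lit 394, nat_lit 413, nat_lit 392]),
   (nat_lit 6, nat_lit 6, [nat_lit 398]),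
   (nat_lit 7, nat_lit 7, [nat_lit 415, nat_lit 17]),
   (nat_lit 8, nat_lit 3, [nat_lit 319]),
   (nat_lit 9, nat_lit 107, [nat_lit 328, nat_lit 330, nat_lit 400, nat_lit 396, nat_lit 326, nat_lit 420, nat_lit 418, nat_lit 324, nat_lit 320, nat_lit 322]),
   (nat_lit 10, nat_lit 48, [nat_lit 390, nat_lit 405]),
   (nat_lit 13, nat_lit 12, [nat_lit 498]),
   (nat_lit 14, nat_lit 192, [nat_lit 540, nat_lit 542, nat_lit 544, nat_lit 536, nat_lit 538]),
   (nat_lit 15, nat_lit 360, [nat_lit 706, nat_lit 712, nat_lit 710, nat_lit 704, nat_lit 700, nat_lit 708, nat_lit 702]),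
   (nat_lit 16, nat_lit 1056, [nat_lit 866, nat_lit 882, nat_lit 864, nat_lit 890, nat_lit 874, nat_lit 872, nat_lit 868, nat_lit 878, nat_lit 876, nat_lit 884, nat_lit 892, nat_lit 1341, nat_lit 886, nat_lit 888, nat_lit 880, nat_lit 870]),
   (nat_lit 17, nat_lit 1536, [nat_lit 1518, nat_lit 1534, nat_lit 1514, nat_lit 1542, nat_lit 1526, nat_lit 1524, nat_lit 1520, nat_lit 1530, nat_lit 1528, nat_lit 1536, nat_lit 1544, nat_lit 1516, nat_lit 1538, nat_lit 1540, nat_lit 1532, nat_lit 1522]),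
   (nat_lit 18, nat_lit 384, [nat_lit 3336, nat_lit 3342, nat_lit 3340, nat_lit 3334, nat_lit 3330, nat_lit 3338, nat_lit 3332])]

theorem r9 : rowOK D (nat_lit 1924) (nat_lit 20) (nat_lit 9) [nat_lit 1908, nat_lit 1909] g9 = true := by
  decide +kernel

end Cfsg.Agent.Comp.J4
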