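import Cfsg.Agent.Comp.J4.Data

set_option autoImplicit false
set_option maxRecDepth 100000

namespace Cfsg.Agent.Comp.J4
open Cfsg Cfsg.Agent.Comp

def g10 : List (Nat × Nat × List Nat) :=
  [(nat_lit 4, nat_lit 96, [nat_lit 352]),
   (nat_lit 5, nat_lit 72, [nat_lit 387, nat_lit 383, nat_lit 385]),
   (nat_lit 6, nat_lit 54, [nat_lit 341, nat_lit 389, nat_lit 368]),
   (nat_lit 7, nat_lit 2, [nat_lit 19]),
   (nat_lit 9, nat_lit 48, [nat_lit 391, nat_lit 404]),
   (nat_lit 10, nat_lit 347, [nat_lit 376, nat_lit 408, nat_lit 364, nat_lit 358, nat_lit 378, nat_lit 380, nat_lit 410, nat_lit 362, nat_lit 402, nat_lit 363, nat_lit 344, nat_lit 372, nat_lit 350, nat_lit 360, nat_lit 354, nat_lit 366, nat_lit 370, nat_lit 346, nat_lit 356, nat_lit 406, nat_lit 374, nat_lit 348]),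
   (nat_lit 11, nat_lit 2, [nat_lit 20]),
   (nat_lit 12, nat_lit 6, [nat_lit 452]),
   (nat_lit 13, nat_lit 24, [nat_lit 504]),
   (nat_lit 14, nat_lit 288, [nat_lit 556, nat_lit 560, nat_lit 562, nat_lit 554, nat_lit 552, nat_lit 546, nat_lit 564, nat_lit 548, nat_lit 550]),
   (nat_lit 15, nat_lit 360, [nat_lit 720, nat_lit 726, nat_lit 724, nat_lit 718, nat_lit 714, nat_lit 722, nat_lit 716]),
   (nat_lit 16, nat_lit 576, [nat_lit 904, nat_lit 906, nat_lit 908, nat_lit 902, nat_lit 900, nat_lit 894, nat_lit 910, nat_lit 896, nat_lit 898]),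
   (nat_lit 17, nat_lit 1728, [nat_lit 1566, nat_lit 1556, nat_lit 1578, nat_lit 1580, nat_lit 1564, nat_lit 1546, nat_lit 1576, nat_lit 1574, nat_lit 1552, nat_lit 1558, nat_lit 1568, nat_lit 1572, nat_lit 1570, nat_lit 1560, nat_lit 1548, nat_lit 1562, nat_lit 1550, nat_lit 1554]),
   (nat_lit 18, nat_lit 192, [nat_lit 3350, nat_lit 3344, nat_lit 3348, nat_lit 3346])]

theorem r10 : rowOK D (nat_lit 1924) (nat_lit 20) (nat_lit 10) [nat_lit 1910, nat_lit 1911, nat_lit 1912] g10 = true := by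
  decide +kernel

def g11 : List (Nat × Nat × List Nat) :=
  [(nat_lit 10, nat_lit 2880, [nat_lit 21]),
   (nat_lit 11, nat_lit 195, [nat_lit 440, nat_lit 438]),
   (nat_lit 12, nat_lit 720, [nat_lit 22])]

theorem r11 : rowOK D (nat_lit 1924) (nat_lit 20) (nat_lit 11) [nat_lit 1913, nat_lit 1914] g11 = true := by
  decide +kernel

def g12 : List (Nat × Nat × List Nat) :=
  [(nat_lit 10, nat_lit 288, [nat_lit 453]),
   (nat_lit 11, nat_lit 24, [nat_lit 23]),
   (nat_lit 12, nat_lit 187, [nat_lit 468, nat_lit 456, nat_lit 464, nat_lit 460]),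
   (nat_lit 13, nat_lit 32, [nat_lit 26]),
   (nat_lit 14, nat_lit 1152, [nat_lit 566]),
   (nat_lit 15, nat_lit 576, [nat_lit 728]),
   (nat_lit 17, nat_lit 1536, [nat_lit 1582])]

theorem r12 : rowOK D (nat_lit 1924) (nat_lit 20) (nat_lit 12) [nat_lit 224, nat_lit 1915] g12 = true := by
  decide +kernel

def g13 : List (Nat × Nat × List Nat) :=
  [(nat_lit 4, nat_lit 576, [nat_lit 506]),
   (nat_lit 9, nat_lit 144, [nat_lit 499]),
   (nat_lit 10, nat_lit 288, [nat_lit 505]),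
   (nat_lit 12, nat_lit 8, [nat_lit 27]),
   (nat_lit 13, nat_lit 91, [nat_lit 514, nat_lit 520, nat_lit 518, nat_lit 512, nat_lit 508, nat_lit 516, nat_lit 510]),
   (nat_lit 14, nat_lit 432, [nat_lit 570, nat_lit 572, nat_lit 568]),
   (nat_lit 15, nat_lit 144, [nat_lit 730]),
   (nat_lit 16, nat_lit 576, [nat_lit 912]),
   (nat_lit 17, nat_lit 1536, [nat_lit 1586, nat_lit 1584])]

theorem r13 : rowOK D (nat_lit 1924) (nat_lit 20) (nat_lit 13) [nat_lit 1916, nat_lit 1917] g13 = true := by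
  decide +kernel

def g14 : List (Nat × Nat × List Nat) :=
  [(nat_lit 4, nat_lit 112, [nat_lit 596, nat_lit 618, nat_lit 624, nat_lit 580, nat_lit 584]),
   (nat_lit 5, nat_lit 12, [nat_lit 533, nat_lit 29]),
   (nat_lit 6, nat_lit 12, [nat_lit 630, nat_lit 582]),
   (nat_lit 7, nat_lit 4, [nat_lit 535]),
   (nat_lit 9, nat_lit 64, [nat_lit 541, nat_lit 543, nat_lit 539, nat_lit 537, nat_lit 545]),
   (nat_lit 10, nat_lit 96, [nat_lit 547, nat_lit 549, nat_lit 561, nat_lit 553, nat_lit 551, nat_lit 563, nat_lit 565, nat_lit 557, nat_lit 555]),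
   (nat_lit 12, nat_lit 8, [nat_lit 567]),
   (nat_lit 13, nat_lit 12, [nat_lit 573, nat_lit 571, nat_lit 569]),
   (nat_lit 14, nat_lit 363, [nat_lit 578, nat_lit 616, nat_lit 602, nat_lit 646, nat_lit 640, nat_lit 632, nat_lit 594, nat_lit 614, nat_lit 590, nat_lit 576, nat_lit 600, nat_lit 628, nat_lit 620, nat_lit 604, nat_lit 648, nat_lit 638, nat_lit 622, nat_lit 608, nat_lit 634, nat_lit 574, nat_lit 635, nat_lit 644, nat_lit 592, nat_lit 606, nat_lit 626, nat_lit 642, nat_lit 610, nat_lit 636, nat_lit 612, nat_lit 586, nat_lit 627, nat_lit 588, nat_lit 598]),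
   (nat_lit 15, nat_lit 232, [nat_lit 744, nat_lit 748, nat_lit 750, nat_lit 746, nat_lit 742, nat_lit 738, nat_lit 732, nat_lit 740, nat_lit 734, nat_lit 736]),
   (nat_lit 16, nat_lit 704, [nat_lit 960, nat_lit 962, nat_lit 936, nat_lit 934, nat_lit 958, nat_lit 916, nat_lit 924, nat_lit 964, nat_lit 952, nat_lit 940, nat_lit 932, nat_lit 948, nat_lit 946, nat_lit 914, nat_lit 928, nat_lit 956, nat_lit 926, nat_lit 938, nat_lit 954, nat_lit 942, nat_lit 944, nat_lit 920, nat_lit 930, nat_lit 918, nat_lit 950, nat_lit 922]),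
   (nat_lit 17, nat_lit 1856, [nat_lit 1638, nat_lit 1702, nat_lit 1632, nat_lit 1606, nat_lit 1592, nat_lit 1598, nat_lit 1664, nat_lit 1678, nat_lit 1634, nat_lit 1666, nat_lit 1692, nat_lit 1700, nat_lit 1624, nat_lit 1608, nat_lit 1594, nat_lit 1610, nat_lit 1626, nat_lit 1618, nat_lit 1656, nat_lit 1688, nat_lit 1698, nat_lit 1640, nat_lit 1674, nat_lit 1654, nat_lit 1630, nat_lit 1612, nat_lit 1646, nat_lit 1658, nat_lit 1652, nat_lit 1680, nat_lit 1662, nat_lit 1668, nat_lit 1628, nat_lit 1672, nat_lit 1616, nat_lit 1622, nat_lit 1682, nat_lit 1588, nat_lit 1642, nat_lit 1676, nat_lit 1590, nat_lit 1686, nat_lit 1600, nat_lit 1614, nat_lit 1636, nat_lit 1670, nat_lit 1648, nat_lit 1644, nat_lit 1694, nat_lit 1650, nat_lit 1602, nat_lit 1620, nat_lit 1596, nat_lit 1684, nat_lit 1690, nat_lit 1696, nat_lit 1660, nat_lit 1604]),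
   (nat_lit 18, nat_lit 320, [nat_lit 3366, nat_lit 3374, nat_lit 3352, nat_lit 3368, nat_lit 3362, nat_lit 3364, nat_lit 3358, nat_lit 3372, nat_lit 3360, nat_lit 3354, nat_lit 3370, nat_lit 3356])]

theorem r14 : rowOK D (nat_lit 1924) (nat_lit 20) (nat_lit 14) [nat_lit 1918, nat_lit 279, nat_lit 1919] g14 = true := by
  decide +kernel

end Cfsg.Agent.Comp.J4
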