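import Cfsg.Agent.Comp.J4.Data

set_option autoImplicit false
set_option maxRecDepth 100000

namespace Cfsg.Agent.Comp.J4
open Cfsg Cfsg.Agent.Comp

def g15 : List (Nat × Nat × List Nat) :=
  [(nat_lit 2, nat_lit 8, [nat_lit 828]),
   (nat_lit 3, nat_lit 24, [nat_lit 830, nat_lit 776]),
   (nat_lit 4, nat_lit 128, [nat_lit 671, nat_lit 661, nat_lit 657, nat_lit 677, nat_lit 681, nat_lit 675, nat_lit 679, nat_lit 669, nat_lit 663, nat_lit 665, nat_lit 673, nat_lit 659]),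
   (nat_lit 5, nat_lit 46, [nat_lit 683, nat_lit 685, nat_lit 689, nat_lit 31, nat_lit 687]),
   (nat_lit 6, nat_lit 12, [nat_lit 693, nat_lit 695, nat_lit 691, nat_lit 697]),
   (nat_lit 8, nat_lit 2, [nat_lit 699]),
   (nat_lit 9, nat_lit 60, [nat_lit 711, nat_lit 705, nat_lit 701, nat_lit 707, nat_lit 713, nat_lit 709, nat_lit 703]),
   (nat_lit 10, nat_lit 60, [nat_lit 719, nat_lit 717, nat_lit 723, nat_lit 727, nat_lit 725, nat_lit 715, nat_lit 721]),
   (nat_lit 12, nat_lit 2, [nat_lit 729]),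
   (nat_lit 13, nat_lit 2, [nat_lit 731]),
   (nat_lit 14, nat_lit 116, [nat_lit 747, nat_lit 749, nat_lit 751, nat_lit 737, nat_lit 745, nat_lit 735, nat_lit 741, nat_lit 733, nat_lit 739, nat_lit 743]),
   (nat_lit 15, nat_lit 407, [nat_lit 812, nat_lit 756, nat_lit 774, nat_lit 818, nat_lit 838, nat_lit 840, nat_lit 762, nat_lit 770, nat_lit 788, nat_lit 820, nat_lit 808, nat_lit 794, nat_lit 836, nat_lit 796, nat_lit 784, nat_lit 800, nat_lit 772, nat_lit 758, nat_lit 790, nat_lit 834, nat_lit 753, nat_lit 782, nat_lit 798, nat_lit 752, nat_lit 804, nat_lit 824, nat_lit 792, nat_lit 822, nat_lit 778, nat_lit 806, nat_lit 813, nat_lit 754, nat_lit 832, nat_lit 764, nat_lit 780, nat_lit 802, nat_lit 814, nat_lit 810, nat_lit 816, nat_lit 766, nat_lit 786, nat_lit 760, nat_lit 826, nat_lit 768]),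
   (nat_lit 16, nat_lit 912, [nat_lit 1016, nat_lit 1090, nat_lit 1036, nat_lit 984, nat_lit 970, nat_lit 976, nat_lit 1010, nat_lit 1030, nat_lit 1018, nat_lit 1054, nat_lit 1080, nat_lit 1004, nat_lit 1024, nat_lit 972, nat_lit 986, nat_lit 1002, nat_lit 988, nat_lit 1052, nat_lit 1044, nat_lit 996, nat_lit 1050, nat_lit 1076, nat_lit 1078, nat_lit 1058, nat_lit 1012, nat_lit 1072, nat_lit 1088, nat_lit 1008, nat_lit 990, nat_lit 1046, nat_lit 1084, nat_lit 1066, nat_lit 1032, nat_lit 1034, nat_lit 1056, nat_lit 1006, nat_lit 1060, nat_lit 1040, nat_lit 994, nat_lit 1000, nat_lit 1070, nat_lit 966, nat_lit 1042, nat_lit 1020, nat_lit 1064, nat_lit 968, nat_lit 1086, nat_lit 978, nat_lit 992, nat_lit 1014, nat_lit 1048, nat_lit 1026, nat_lit 1022, nat_lit 1082, nat_lit 1028, nat_lit 980, nat_lit 998, nat_lit 974, nat_lit 1062, nat_lit 1068, nat_lit 1074, nat_lit 1038, nat_lit 982]),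
   (nat_lit 17, nat_lit 1776, [nat_lit 1902, nat_lit 1872, nat_lit 1840, nat_lit 1724, nat_lit 1914, nat_lit 1722, nat_lit 1860, nat_lit 1888, nat_lit 1880, nat_lit 1712, nat_lit 1850, nat_lit 1770, nat_lit 1882, nat_lit 1878, nat_lit 1808, nat_lit 1780, nat_lit 1790, nat_lit 1744, nat_lit 1714, nat_lit 1852, nat_lit 1736, nat_lit 1732, nat_lit 1776, nat_lit 1822, nat_lit 1750, nat_lit 1804, nat_lit 1752, nat_lit 1748, nat_lit 1836, nat_lit 1924, nat_lit 1782, nat_lit 1846, nat_lit 1892, nat_lit 1886, nat_lit 1910, nat_lit 1764, nat_lit 1844, nat_lit 1754, nat_lit 1884, nat_lit 1766, nat_lit 1832, nat_lit 1826, nat_lit 1742, nat_lit 1894, nat_lit 1788, nat_lit 1806, nat_lit 1856, nat_lit 1912, nat_lit 1794, nat_lit 1874, nat_lit 1746, nat_lit 1798, nat_lit 1718, nat_lit 1740, nat_lit 1796, nat_lit 1900, nat_lit 1726, nat_lit 1716, nat_lit 1786, nat_lit 1774, nat_lit 1834, nat_lit 1810, nat_lit 1896, nat_lit 1866, nat_lit 1778,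 nat_lit 1820, nat_lit 1922, nat_lit 1862, nat_lit 1792, nat_lit 1876, nat_lit 1918, nat_lit 1816, nat_lit 1760, nat_lit 1838, nat_lit 1864, nat_lit 1812, nat_lit 1758, nat_lit 1906, nat_lit 1706, nat_lit 1842, nat_lit 1868, nat_lit 1708, nat_lit 1890, nat_lit 1784, nat_lit 1730, nat_lit 1854, nat_lit 1762, nat_lit 1772, nat_lit 1904, nat_lit 1704, nat_lit 1858, nat_lit 1814, nat_lit 1802, nat_lit 1710, nat_lit 1828, nat_lit 1728, nat_lit 1756, nat_lit 1800, nat_lit 1870, nat_lit 1824, nat_lit 1818, nat_lit 1916, nat_lit 1830, nat_lit 1734, nat_lit 1768, nat_lit 1720, nat_lit 1898, nat_lit 1908, nat_lit 1920, nat_lit 1848, nat_lit 1738]),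
   (nat_lit 18, nat_lit 224, [nat_lit 3396, nat_lit 3386, nat_lit 3406, nat_lit 3404, nat_lit 3394, nat_lit 3376, nat_lit 3392, nat_lit 3402, nat_lit 3382, nat_lit 3388, nat_lit 3398, nat_lit 3400, nat_lit 3390, nat_lit 3378, nat_lit 3408, nat_lit 3380, nat_lit 3384]),
   (nat_lit 19, nat_lit 16, [nat_lit 3744])]

theorem r15 : rowOK D (nat_lit 1924) (nat_lit 20) (nat_lit 15) [nat_lit 1920, nat_lit 1921, nat_lit 1922] g15 = true := by
  decide +kernel

def g16 : List (Nat × Nat × List Nat) :=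
  [(nat_lit 2, nat_lit 6, [nat_lit 1224]),
   (nat_lit 3, nat_lit 30, [nat_lit 1246, nat_lit 1248, nat_lit 1294, nat_lit 1114, nat_lit 1138]),
   (nat_lit 4, nat_lit 102, [nat_lit 1358, nat_lit 1274, nat_lit 849, nat_lit 847, nat_lit 1330, nat_lit 1202, nat_lit 851, nat_lit 1208, nat_lit 1390, nat_lit 1302, nat_lit 1338, nat_lit 1370, nat_lit 1386, nat_lit 1360, nat_lit 1316, nat_lit 1244, nat_lit 1328, nat_lit 1226, nat_lit 1398, nat_lit 1252]),
   (nat_lit 5, nat_lit 33, [nat_lit 1368, nat_lit 859, nat_lit 1326, nat_lit 855, nat_lit 853, nat_lit 1200, nat_lit 857, nat_lit 1356]),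
   (nat_lit 6, nat_lit 9, [nat_lit 861, nat_lit 863]),
   (nat_lit 7, nat_lit 1, [nat_lit 33]),
   (nat_lit 9, nat_lit 66, [nat_lit 885, nat_lit 879, nat_lit 869, nat_lit 883, nat_lit 1340, nat_lit 887, nat_lit 881, nat_lit 891, nat_lit 877, nat_lit 873, nat_lit 865, nat_lit 867, nat_lit 875, nat_lit 893, nat_lit 889, nat_lit 871]),
   (nat_lit 10, nat_lit 36, [nat_lit 903, nat_lit 895, nat_lit 901, nat_lit 911, nat_lit 907, nat_lit 909, nat_lit 905, nat_lit 899, nat_lit 897]),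
   (nat_lit 13, nat_lit 3, [nat_lit 913]),
   (nat_lit 14, nat_lit 132, [nat_lit 915, nat_lit 963, nat_lit 937, nat_lit 931, nat_lit 957, nat_lit 917, nat_lit 951, nat_lit 953, nat_lit 945, nat_lit 941, nat_lit 929, nat_lit 933, nat_lit 921, nat_lit 965, nat_lit 959, nat_lit 923, nat_lit 961, nat_lit 919, nat_lit 925, nat_lit 943, nat_lit 947, nat_lit 939, nat_lit 927, nat_lit 955, nat_lit 935, nat_lit 949]),
   (nat_lit 15, nat_lit 342, [nat_lit 1047, nat_lit 1035, nat_lit 1023, nat_lit 1055, nat_lit 1089, nat_lit 969, nat_lit 991, nat_lit 1061, nat_lit 1057, nat_lit 971, nat_lit 1075, nat_lit 1069, nat_lit 1005, nat_lit 1043, nat_lit 987, nat_lit 999, nat_lit 1003, nat_lit 1029, nat_lit 985, nat_lit 1077, nat_lit 975, nat_lit 989, nat_lit 1033, nat_lit 1019, nat_lit 1085, nat_lit 1081, nat_lit 1007, nat_lit 1063, nat_lit 1015, nat_lit 1051, nat_lit 1025, nat_lit 967, nat_lit 1049, nat_lit 1041, nat_lit 1021, nat_lit 1059,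 nat_lit 993, nat_lit 1017, nat_lit 1073, nat_lit 1013, nat_lit 1083, nat_lit 1087, nat_lit 1037, nat_lit 981, nat_lit 977, nat_lit 997, nat_lit 1039, nat_lit 1053, nat_lit 1009, nat_lit 1065, nat_lit 1091, nat_lit 983, nat_lit 1045, nat_lit 1027, nat_lit 1079, nat_lit 1001, nat_lit 1067, nat_lit 979, nat_lit 1031, nat_lit 973, nat_lit 1071, nat_lit 1011, nat_lit 995]),
   (nat_lit 16, nat_lit 947, [nat_lit 1182, nat_lit 1221, nat_lit 1242, nat_lit 1128, nat_lit 1306, nat_lit 1112, nat_lit 1130, nat_lit 1364, nat_lit 1162, nat_lit 1206, nat_lit 1095, nat_lit 1180, nat_lit 1250, nat_lit 1178, nat_lit 1124, nat_lit 1382, nat_lit 1110, nat_lit 1300, nat_lit 1321, nat_lit 1132, nat_lit 1177, nat_lit 1214, nat_lit 1113, nat_lit 1108, nat_lit 1258, nat_lit 1289, nat_lit 1152, nat_lit 1176, nat_lit 1286, nat_lit 1284, nat_lit 1344, nat_lit 1143, nat_lit 1195, nat_lit 1264, nat_lit 1280, nat_lit 1170, nat_lit 1093, nat_lit 1310, nat_lit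 1122, nat_lit 1260, nat_lit 1279, nat_lit 1254, nat_lit 1266, nat_lit 1270, nat_lit 1334, nat_lit 1173, nat_lit 1236, nat_lit 1290, nat_lit 1197, nat_lit 1187, nat_lit 1320, nat_lit 1336, nat_lit 1354, nat_lit 1160, nat_lit 1118, nat_lit 1166, nat_lit 1309, nat_lit 1142, nat_lit 1297, nat_lit 1175, nat_lit 1312, nat_lit 1155, nat_lit 1150, nat_lit 1157, nat_lit 1277, nat_lit 1194, nat_lit 1169, nat_lit 1159, nat_lit 1315, nat_lit 1186, nat_lit 1184, nat_lit 1298, nat_lit 1135, nat_lit 1352, nat_lit 1314, nat_lit 1238, nat_lit 1378, nat_lit 1094, nat_lit 1154, nat_lit 1350, nat_lit 1167, nat_lit 1136, nat_lit 1288, nat_lit 1127, nat_lit 1394, nat_lit 1262, nat_lit 1174, nat_lit 1267, nat_lit 1099, nat_lit 1098, nat_lit 1222, nat_lit 1131, nat_lit 1348, nat_lit 1234, nat_lit 1134, nat_lit 1120, nat_lit 1251, nat_lit 1272, nat_lit 1109, nat_lit 1116, nat_lit 1376, nat_lit 1292, nat_lit 1278, nat_lit 1153, nat_lit 1282, nat_lit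 1240, nat_lit 1188, nat_lit 1140, nat_lit 1372, nat_lit 1231, nat_lit 1198, nat_lit 1308, nat_lit 1296, nat_lit 1158, nat_lit 1220, nat_lit 1100, nat_lit 1324, nat_lit 1333, nat_lit 1196, nat_lit 1230, nat_lit 1367, nat_lit 1141, nat_lit 1228, nat_lit 1183, nat_lit 1374, nat_lit 1168, nat_lit 1172, nat_lit 1192, nat_lit 1392, nat_lit 1366, nat_lit 1276, nat_lit 1401, nat_lit 1241, nat_lit 1190, nat_lit 1146, nat_lit 1318, nat_lit 1400, nat_lit 1256, nat_lit 1346, nat_lit 1181, nat_lit 1123, nat_lit 1107, nat_lit 1218, nat_lit 1384, nat_lit 1235, nat_lit 1299, nat_lit 1212, nat_lit 1380, nat_lit 1259, nat_lit 1322, nat_lit 1210, nat_lit 1111, nat_lit 1096, nat_lit 1125, nat_lit 1104, nat_lit 1102, nat_lit 1179, nat_lit 1268, nat_lit 1148, nat_lit 1337, nat_lit 1216, nat_lit 1117, nat_lit 1291, nat_lit 1092, nat_lit 1396, nat_lit 1332, nat_lit 1304, nat_lit 1106, nat_lit 1191, nat_lit 1144, nat_lit 1204, nat_lit 1193, nat_lit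 1163, nat_lit 1149, nat_lit 1342, nat_lit 1362, nat_lit 1156, nat_lit 1232, nat_lit 1126, nat_lit 1388, nat_lit 1164]),
   (nat_lit 17, nat_lit 1800, [nat_lit 2398, nat_lit 2370, nat_lit 1976, nat_lit 2084, nat_lit 2148, nat_lit 2472, nat_lit 2130, nat_lit 2118, nat_lit 2420, nat_lit 2326, nat_lit 2456, nat_lit 2482, nat_lit 2490, nat_lit 2272, nat_lit 2244, nat_lit 2454, nat_lit 2380, nat_lit 2214, nat_lit 2430, nat_lit 2154, nat_lit 2492, nat_lit 2506, nat_lit 2458, nat_lit 1936, nat_lit 1986, nat_lit 2360, nat_lit 2444, nat_lit 2260, nat_lit 1964, nat_lit 2510, nat_lit 2038, nat_lit 2356, nat_lit 2364, nat_lit 2274, nat_lit 2006, nat_lit 1988, nat_lit 2010, nat_lit 2328, nat_lit 2078, nat_lit 2246, nat_lit 2414, nat_lit 2354, nat_lit 1950, nat_lit 2292, nat_lit 2242, nat_lit 2522, nat_lit 2098, nat_lit 2218, nat_lit 2436, nat_lit 1984, nat_lit 2428, nat_lit 2134, nat_lit 2158, nat_lit 2110, nat_lit 2076, nat_lit 1996, nat_lit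 2232, nat_lit 2484, nat_lit 2066, nat_lit 1998, nat_lit 2120, nat_lit 1946, nat_lit 2348, nat_lit 2194, nat_lit 2344, nat_lit 2088, nat_lit 1944, nat_lit 2418, nat_lit 1938, nat_lit 2346, nat_lit 1958, nat_lit 2002, nat_lit 2474, nat_lit 2460, nat_lit 2464, nat_lit 2072, nat_lit 2224, nat_lit 2258, nat_lit 2254, nat_lit 2092, nat_lit 2100, nat_lit 2058, nat_lit 2086, nat_lit 2124, nat_lit 2064, nat_lit 2034, nat_lit 2054, nat_lit 2040, nat_lit 2378, nat_lit 2230, nat_lit 2204, nat_lit 2026, nat_lit 2336, nat_lit 2410, nat_lit 1930, nat_lit 2036, nat_lit 2406, nat_lit 1978, nat_lit 2210, nat_lit 2252, nat_lit 2320, nat_lit 2478, nat_lit 2372, nat_lit 1974, nat_lit 2128, nat_lit 2032, nat_lit 2308, nat_lit 2024, nat_lit 2004, nat_lit 2196, nat_lit 2312, nat_lit 2516, nat_lit 2340, nat_lit 2342, nat_lit 2104, nat_lit 2388, nat_lit 2000, nat_lit 2238, nat_lit 2090, nat_lit 1994, nat_lit 2390, nat_lit 2178, nat_lit 2168, nat_lit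 2060, nat_lit 2520, nat_lit 1966, nat_lit 2318, nat_lit 1960, nat_lit 2074, nat_lit 2234, nat_lit 2020, nat_lit 1982, nat_lit 2280, nat_lit 2052, nat_lit 2068, nat_lit 2450, nat_lit 2156, nat_lit 2476, nat_lit 1968, nat_lit 1962, nat_lit 2512, nat_lit 2056, nat_lit 2248, nat_lit 1972, nat_lit 2018, nat_lit 2276, nat_lit 2016, nat_lit 2304, nat_lit 2330, nat_lit 2282, nat_lit 2094, nat_lit 2298, nat_lit 2200, nat_lit 1926, nat_lit 2288, nat_lit 2462, nat_lit 2108, nat_lit 2174, nat_lit 2136, nat_lit 2394, nat_lit 2332, nat_lit 2208, nat_lit 2216, nat_lit 2496, nat_lit 2172, nat_lit 2468, nat_lit 2144, nat_lit 2486, nat_lit 2212, nat_lit 2190, nat_lit 1992, nat_lit 2426, nat_lit 2122, nat_lit 2494, nat_lit 2236, nat_lit 2296, nat_lit 2262, nat_lit 2524, nat_lit 2488, nat_lit 2106, nat_lit 2220, nat_lit 2102, nat_lit 2188, nat_lit 2400, nat_lit 2044, nat_lit 2366, nat_lit 2202, nat_lit 2442, nat_lit 1932, nat_lit 2042, nat_lit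 2422, nat_lit 2310, nat_lit 2012, nat_lit 2256, nat_lit 2338, nat_lit 2448, nat_lit 2438, nat_lit 2240, nat_lit 2286, nat_lit 2082, nat_lit 2446, nat_lit 2166, nat_lit 1940, nat_lit 2300, nat_lit 2176, nat_lit 2114, nat_lit 2412, nat_lit 2192, nat_lit 2008, nat_lit 2498, nat_lit 1980, nat_lit 2518, nat_lit 2264, nat_lit 2452, nat_lit 1970, nat_lit 2440, nat_lit 2302, nat_lit 2270, nat_lit 2322, nat_lit 2284, nat_lit 2206, nat_lit 2112, nat_lit 2014, nat_lit 2266, nat_lit 2138, nat_lit 2132, nat_lit 2334, nat_lit 2434, nat_lit 2050, nat_lit 2170, nat_lit 1942, nat_lit 2362, nat_lit 2402, nat_lit 2126, nat_lit 2416, nat_lit 2470, nat_lit 2180, nat_lit 2376, nat_lit 2226, nat_lit 2070, nat_lit 2080, nat_lit 2504, nat_lit 2268, nat_lit 2392, nat_lit 2350, nat_lit 2184, nat_lit 2142, nat_lit 2404, nat_lit 2182, nat_lit 2290, nat_lit 2502, nat_lit 2294, nat_lit 2384, nat_lit 2096, nat_lit 2306, nat_lit 2048, nat_lit 2228, nat_lit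 2116, nat_lit 2028, nat_lit 2352, nat_lit 2480, nat_lit 2222, nat_lit 2396, nat_lit 2150, nat_lit 2162, nat_lit 2278, nat_lit 2164, nat_lit 2514, nat_lit 2374, nat_lit 2152, nat_lit 2466, nat_lit 2500, nat_lit 2358, nat_lit 2146, nat_lit 2316, nat_lit 1934, nat_lit 1952, nat_lit 1948, nat_lit 1956, nat_lit 2250, nat_lit 2030, nat_lit 2160, nat_lit 2198, nat_lit 2382, nat_lit 1928, nat_lit 2368, nat_lit 2324, nat_lit 1954, nat_lit 2424, nat_lit 2022, nat_lit 2140, nat_lit 2314, nat_lit 2408, nat_lit 2386, nat_lit 2432, nat_lit 2046, nat_lit 2186, nat_lit 1990, nat_lit 2508, nat_lit 2062]),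
   (nat_lit 18, nat_lit 264, [nat_lit 3414, nat_lit 3440, nat_lit 3504, nat_lit 3428, nat_lit 3452, nat_lit 3468, nat_lit 3506, nat_lit 3420, nat_lit 3502, nat_lit 3438, nat_lit 3432, nat_lit 3474, nat_lit 3478, nat_lit 3462, nat_lit 3508, nat_lit 3448, nat_lit 3488, nat_lit 3486, nat_lit 3434, nat_lit 3454, nat_lit 3484, nat_lit 3450, nat_lit 3494, nat_lit 3480, nat_lit 3476, nat_lit 3430, nat_lit 3416, nat_lit 3446, nat_lit 3500, nat_lit 3460, nat_lit 3456, nat_lit 3444, nat_lit 3496, nat_lit 3410, nat_lit 3464, nat_lit 3490, nat_lit 3412, nat_lit 3498, nat_lit 3422, nat_lit 3436, nat_lit 3458, nat_lit 3492, nat_lit 3470, nat_lit 3466, nat_lit 3472, nat_lit 3424, nat_lit 3442, nat_lit 3418, nat_lit 3482, nat_lit 3426]),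
   (nat_lit 19, nat_lit 24, [nat_lit 3752, nat_lit 3746, nat_lit 3750, nat_lit 3748])]

theorem r16 : rowOK D (nat_lit 1924) (nat_lit 20) (nat_lit 16) [nat_lit 421, nat_lit 422] g16 = true := by
  decide +kernel

def g17 : List (Nat × Nat × List Nat) :=
  [(nat_lit 2, nat_lit 6, [nat_lit 3086, nat_lit 35, nat_lit 2858, nat_lit 2824]),
   (nat_lit 3, nat_lit 27, [nat_lit 3216, nat_lit 1407, nat_lit 3292, nat_lit 3262, nat_lit 3134, nat_lit 3032, nat_lit 1405, nat_lit 1409, nat_lit 2624, nat_lit 3288, nat_lit 2640]),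
   (nat_lit 4, nat_lit 104, [nat_lit 1447, nat_lit 1425, nat_lit 1455, nat_lit 1413, nat_lit 1437, nat_lit 1449, nat_lit 1475, nat_lit 1463, nat_lit 1421, nat_lit 1469, nat_lit 1477, nat_lit 1427, nat_lit 1445, nat_lit 1411, nat_lit 1443, nat_lit 1465, nat_lit 1423, nat_lit 1415, nat_lit 1417, nat_lit 1457, nat_lit 1471, nat_lit 2578, nat_lit 1451, nat_lit 1419, nat_lit 1433, nat_lit 1467, nat_lit 1441, nat_lit 1439, nat_lit 1453, nat_lit 1435, nat_lit 1479, nat_lit 1429, nat_lit 1473, nat_lit 1461, nat_lit 1459, nat_lit 1431]),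
   (nat_lit 5, nat_lit 42, [nat_lit 1503, nat_lit 1491, nat_lit 1483, nat_lit 1501, nat_lit 1485, nat_lit 1497, nat_lit 1489, nat_lit 1505, nat_lit 1499, nat_lit 1493, nat_lit 1507, nat_lit 1487, nat_lit 1495, nat_lit 1481]),
   (nat_lit 6, nat_lit 9, [nat_lit 1511, nat_lit 1509, nat_lit 1513]),
   (nat_lit 9, nat_lit 48, [nat_lit 1519, nat_lit 1515, nat_lit 1537, nat_lit 1539, nat_lit 1533, nat_lit 1529, nat_lit 1517, nat_lit 1541, nat_lit 1527, nat_lit 1523, nat_lit 1531, nat_lit 1525, nat_lit 1521, nat_lit 1543, nat_lit 1535, nat_lit 1545]),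
   (nat_lit 10, nat_lit 54, [nat_lit 1567, nat_lit 1563, nat_lit 1555, nat_lit 1577, nat_lit 1581, nat_lit 1569, nat_lit 1559, nat_lit 1565, nat_lit 1571, nat_lit 1557, nat_lit 1551, nat_lit 1547, nat_lit 1561, nat_lit 1553, nat_lit 1573, nat_lit 1549, nat_lit 1575, nat_lit 1579]),
   (nat_lit 12, nat_lit 1, [nat_lit 1583]),
   (nat_lit 13, nat_lit 4, [nat_lit 1585, nat_lit 1587]),
   (nat_lit 14, nat_lit 174, [nat_lit 1637, nat_lit 1667, nat_lit 1641, nat_lit 1647, nat_lit 1693, nat_lit 1649, nat_lit 1607, nat_lit 1619, nat_lit 1659, nat_lit 1595, nat_lit 1645, nat_lit 1633, nat_lit 1611, nat_lit 1661, nat_lit 1597, nat_lit 1589, nat_lit 1703, nat_lit 1663, nat_lit 1653, nat_lit 1627, nat_lit 1665, nat_lit 1677, nat_lit 1603, nat_lit 1631, nat_lit 1655, nat_lit 1643, nat_lit 1625, nat_lit 1639, nat_lit 1621, nat_lit 1689, nat_lit 1673, nat_lit 1687, nat_lit 1591, nat_lit 1651, nat_lit 1669, nat_lit 1605, nat_lit 1617, nat_lit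 1593, nat_lit 1613, nat_lit 1623, nat_lit 1671, nat_lit 1679, nat_lit 1681, nat_lit 1635, nat_lit 1629, nat_lit 1599, nat_lit 1699, nat_lit 1701, nat_lit 1601, nat_lit 1695, nat_lit 1657, nat_lit 1685, nat_lit 1683, nat_lit 1691, nat_lit 1697, nat_lit 1609, nat_lit 1615, nat_lit 1675]),
   (nat_lit 15, nat_lit 333, [nat_lit 1849, nat_lit 1745, nat_lit 1911, nat_lit 1761, nat_lit 1801, nat_lit 1887, nat_lit 1809, nat_lit 1763, nat_lit 1889, nat_lit 1795, nat_lit 1735, nat_lit 1727, nat_lit 1859, nat_lit 1771, nat_lit 1783, nat_lit 1753, nat_lit 1817, nat_lit 1773, nat_lit 1711, nat_lit 1863, nat_lit 1785, nat_lit 1709, nat_lit 1877, nat_lit 1717, nat_lit 1919, nat_lit 1923, nat_lit 1879, nat_lit 1823, nat_lit 1733, nat_lit 1917, nat_lit 1837, nat_lit 1881, nat_lit 1833, nat_lit 1851, nat_lit 1827, nat_lit 1789, nat_lit 1825, nat_lit 1707, nat_lit 1777, nat_lit 1787, nat_lit 1715, nat_lit 1839, nat_lit 1831, nat_lit 1829, nat_lit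 1925, nat_lit 1781, nat_lit 1853, nat_lit 1803, nat_lit 1873, nat_lit 1903, nat_lit 1835, nat_lit 1811, nat_lit 1713, nat_lit 1767, nat_lit 1895, nat_lit 1871, nat_lit 1883, nat_lit 1765, nat_lit 1893, nat_lit 1747, nat_lit 1921, nat_lit 1819, nat_lit 1731, nat_lit 1885, nat_lit 1739, nat_lit 1813, nat_lit 1843, nat_lit 1913, nat_lit 1779, nat_lit 1741, nat_lit 1865, nat_lit 1725, nat_lit 1755, nat_lit 1861, nat_lit 1891, nat_lit 1867, nat_lit 1869, nat_lit 1915, nat_lit 1855, nat_lit 1901, nat_lit 1897, nat_lit 1847, nat_lit 1751, nat_lit 1793, nat_lit 1749, nat_lit 1723, nat_lit 1729, nat_lit 1815, nat_lit 1845, nat_lit 1805, nat_lit 1821, nat_lit 1907, nat_lit 1721, nat_lit 1775, nat_lit 1719, nat_lit 1857, nat_lit 1905, nat_lit 1769, nat_lit 1705, nat_lit 1909, nat_lit 1807, nat_lit 1875, nat_lit 1841, nat_lit 1743, nat_lit 1759, nat_lit 1791, nat_lit 1737, nat_lit 1757, nat_lit 1899, nat_lit 1797, nat_lit 1799]),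
   (nat_lit 16, nat_lit 900, [nat_lit 2149, nat_lit 2255, nat_lit 2395, nat_lit 2353, nat_lit 1991, nat_lit 1989, nat_lit 2215, nat_lit 2083, nat_lit 2523, nat_lit 2185, nat_lit 2069, nat_lit 2245, nat_lit 2051, nat_lit 2011, nat_lit 2223, nat_lit 2467, nat_lit 2075, nat_lit 2373, nat_lit 2367, nat_lit 2171, nat_lit 1987, nat_lit 1999, nat_lit 2513, nat_lit 2251, nat_lit 2315, nat_lit 2327, nat_lit 1941, nat_lit 2107, nat_lit 2269, nat_lit 1963, nat_lit 2495, nat_lit 2505, nat_lit 2055, nat_lit 2387, nat_lit 1927, nat_lit 2429, nat_lit 2047, nat_lit 2139, nat_lit 2449, nat_lit 2005, nat_lit 2457, nat_lit 2305, nat_lit 1951, nat_lit 1973, nat_lit 2357, nat_lit 2519, nat_lit 2023, nat_lit 2309, nat_lit 2405, nat_lit 1931, nat_lit 2503, nat_lit 2033, nat_lit 2237, nat_lit 2313, nat_lit 2057, nat_lit 2019, nat_lit 2481, nat_lit 2417, nat_lit 2021, nat_lit 2189, nat_lit 2525, nat_lit 2427, nat_lit 2355, nat_lit 2469, nat_lit 2517,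 nat_lit 2071, nat_lit 2473, nat_lit 2335, nat_lit 2399, nat_lit 2323, nat_lit 2497, nat_lit 2151, nat_lit 2329, nat_lit 2443, nat_lit 2135, nat_lit 2097, nat_lit 2089, nat_lit 2073, nat_lit 2247, nat_lit 2099, nat_lit 2165, nat_lit 2307, nat_lit 2261, nat_lit 2409, nat_lit 2087, nat_lit 2343, nat_lit 2169, nat_lit 2061, nat_lit 2227, nat_lit 2197, nat_lit 2499, nat_lit 1939, nat_lit 2319, nat_lit 1969, nat_lit 2203, nat_lit 2293, nat_lit 2193, nat_lit 1947, nat_lit 2271, nat_lit 2331, nat_lit 2287, nat_lit 2009, nat_lit 2415, nat_lit 2053, nat_lit 2391, nat_lit 2147, nat_lit 1937, nat_lit 2267, nat_lit 2017, nat_lit 2465, nat_lit 2219, nat_lit 2111, nat_lit 2179, nat_lit 2421, nat_lit 2259, nat_lit 1995, nat_lit 2441, nat_lit 2345, nat_lit 2489, nat_lit 2163, nat_lit 2123, nat_lit 2301, nat_lit 2031, nat_lit 2187, nat_lit 2279, nat_lit 2501, nat_lit 2397, nat_lit 2105, nat_lit 2265, nat_lit 2109, nat_lit 2463, nat_lit 2435,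 nat_lit 2181, nat_lit 2085, nat_lit 2161, nat_lit 2337, nat_lit 2445, nat_lit 2433, nat_lit 2211, nat_lit 2297, nat_lit 2439, nat_lit 2045, nat_lit 2155, nat_lit 2407, nat_lit 1933, nat_lit 2209, nat_lit 2143, nat_lit 2077, nat_lit 2295, nat_lit 2401, nat_lit 2231, nat_lit 2363, nat_lit 2377, nat_lit 2015, nat_lit 2121, nat_lit 2141, nat_lit 2205, nat_lit 2233, nat_lit 2477, nat_lit 1967, nat_lit 2201, nat_lit 2455, nat_lit 2037, nat_lit 2349, nat_lit 2393, nat_lit 2029, nat_lit 2249, nat_lit 2263, nat_lit 2137, nat_lit 2273, nat_lit 2453, nat_lit 2515, nat_lit 2207, nat_lit 2253, nat_lit 2213, nat_lit 1983, nat_lit 1993, nat_lit 2411, nat_lit 2159, nat_lit 2281, nat_lit 2229, nat_lit 1977, nat_lit 1975, nat_lit 2385, nat_lit 2063, nat_lit 2403, nat_lit 2379, nat_lit 2235, nat_lit 2167, nat_lit 1959, nat_lit 2065, nat_lit 2129, nat_lit 2425, nat_lit 1943, nat_lit 2275, nat_lit 2491, nat_lit 2507, nat_lit 2131, nat_lit 2361,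 nat_lit 2437, nat_lit 2177, nat_lit 2041, nat_lit 1945, nat_lit 2217, nat_lit 2325, nat_lit 2039, nat_lit 2145, nat_lit 1935, nat_lit 2043, nat_lit 2079, nat_lit 2175, nat_lit 2127, nat_lit 2413, nat_lit 2049, nat_lit 2191, nat_lit 2067, nat_lit 2241, nat_lit 2183, nat_lit 2001, nat_lit 1979, nat_lit 2371, nat_lit 2423, nat_lit 2311, nat_lit 2317, nat_lit 1971, nat_lit 1965, nat_lit 2447, nat_lit 2257, nat_lit 1957, nat_lit 2475, nat_lit 2289, nat_lit 1929, nat_lit 2243, nat_lit 2157, nat_lit 1961, nat_lit 2119, nat_lit 2277, nat_lit 2461, nat_lit 2221, nat_lit 2451, nat_lit 2091, nat_lit 2521, nat_lit 1949, nat_lit 2153, nat_lit 1955, nat_lit 2095, nat_lit 2509, nat_lit 2093, nat_lit 2113, nat_lit 2225, nat_lit 2487, nat_lit 2365, nat_lit 2173, nat_lit 2013, nat_lit 2431, nat_lit 1981, nat_lit 2369, nat_lit 2117, nat_lit 2389, nat_lit 2299, nat_lit 2493, nat_lit 1985, nat_lit 2025, nat_lit 2283, nat_lit 2007, nat_lit 2485,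 nat_lit 2027, nat_lit 2059, nat_lit 2359, nat_lit 2101, nat_lit 2459, nat_lit 2303, nat_lit 2471, nat_lit 2199, nat_lit 2419, nat_lit 2115, nat_lit 2511, nat_lit 1953, nat_lit 2341, nat_lit 2285, nat_lit 2483, nat_lit 2003, nat_lit 2333, nat_lit 2081, nat_lit 2125, nat_lit 2375, nat_lit 2133, nat_lit 2321, nat_lit 2195, nat_lit 2291, nat_lit 2383, nat_lit 2239, nat_lit 2339, nat_lit 2479, nat_lit 2351, nat_lit 2347, nat_lit 2035, nat_lit 2381, nat_lit 1997, nat_lit 2103]),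
   (nat_lit 17, nat_lit 1814, [nat_lit 2744, nat_lit 3238, nat_lit 3283, nat_lit 3154, nat_lit 2738, nat_lit 2886, nat_lit 2839, nat_lit 2772, nat_lit 3274, nat_lit 3204, nat_lit 2952, nat_lit 3184, nat_lit 2671, nat_lit 3120, nat_lit 2726, nat_lit 2758, nat_lit 2843, nat_lit 2794, nat_lit 2728, nat_lit 2881, nat_lit 3024, nat_lit 2541, nat_lit 3067, nat_lit 3178, nat_lit 2596, nat_lit 2996, nat_lit 2947, nat_lit 3076, nat_lit 2768, nat_lit 2533, nat_lit 3125, nat_lit 2601, nat_lit 2725, nat_lit 2835, nat_lit 2626, nat_lit 2823, nat_lit 2710, nat_lit 3196, nat_lit 2581, nat_lit 3182, nat_lit 2652, nat_lit 2552, nat_lit 2889, nat_lit 3017, nat_lit 2672, nat_lit 2718, nat_lit 3227, nat_lit 2812, nat_lit 3137, nat_lit 3084, nat_lit 2778, nat_lit 3147, nat_lit 2690, nat_lit 3239, nat_lit 2759, nat_lit 2700, nat_lit 2852, nat_lit 2981, nat_lit 3158, nat_lit 2623, nat_lit 2638, nat_lit 2838, nat_lit 2769, nat_lit 3052, nat_lit 3250,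 nat_lit 2717, nat_lit 2846, nat_lit 3226, nat_lit 3236, nat_lit 2662, nat_lit 3136, nat_lit 3181, nat_lit 2677, nat_lit 2795, nat_lit 3055, nat_lit 2766, nat_lit 3090, nat_lit 3214, nat_lit 2654, nat_lit 2679, nat_lit 3168, nat_lit 3245, nat_lit 3012, nat_lit 3271, nat_lit 2780, nat_lit 2882, nat_lit 2883, nat_lit 2796, nat_lit 2666, nat_lit 2722, nat_lit 2895, nat_lit 2615, nat_lit 3199, nat_lit 2548, nat_lit 2880, nat_lit 2741, nat_lit 2632, nat_lit 2676, nat_lit 2844, nat_lit 2539, nat_lit 2958, nat_lit 2765, nat_lit 2836, nat_lit 2816, nat_lit 2560, nat_lit 2848, nat_lit 2633, nat_lit 2571, nat_lit 3038, nat_lit 2910, nat_lit 2678, nat_lit 3202, nat_lit 3026, nat_lit 2734, nat_lit 2532, nat_lit 3096, nat_lit 3108, nat_lit 2568, nat_lit 3164, nat_lit 3009, nat_lit 3256, nat_lit 2528, nat_lit 3013, nat_lit 2651, nat_lit 3194, nat_lit 3248, nat_lit 3088, nat_lit 2818, nat_lit 2798, nat_lit 2946, nat_lit 2964, nat_lit 3308,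 nat_lit 3065, nat_lit 3252, nat_lit 2608, nat_lit 3304, nat_lit 2684, nat_lit 2878, nat_lit 2791, nat_lit 2970, nat_lit 2871, nat_lit 2884, nat_lit 3260, nat_lit 3014, nat_lit 2592, nat_lit 2745, nat_lit 2605, nat_lit 2582, nat_lit 2902, nat_lit 2894, nat_lit 2905, nat_lit 2604, nat_lit 2618, nat_lit 3219, nat_lit 2781, nat_lit 2773, nat_lit 2898, nat_lit 2786, nat_lit 2699, nat_lit 3064, nat_lit 2695, nat_lit 2782, nat_lit 2667, nat_lit 2619, nat_lit 2863, nat_lit 2785, nat_lit 2951, nat_lit 3117, nat_lit 2864, nat_lit 2767, nat_lit 2589, nat_lit 2707, nat_lit 2575, nat_lit 3083, nat_lit 3298, nat_lit 3097, nat_lit 2888, nat_lit 2669, nat_lit 2974, nat_lit 3062, nat_lit 3051, nat_lit 3193, nat_lit 2992, nat_lit 3162, nat_lit 2656, nat_lit 2686, nat_lit 3155, nat_lit 2962, nat_lit 2622, nat_lit 2698, nat_lit 2984, nat_lit 2928, nat_lit 2801, nat_lit 3206, nat_lit 2555, nat_lit 3233, nat_lit 2820, nat_lit 2988, nat_lit 3044,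 nat_lit 3060, nat_lit 2904, nat_lit 2901, nat_lit 2674, nat_lit 2653, nat_lit 3300, nat_lit 2658, nat_lit 3156, nat_lit 2688, nat_lit 2803, nat_lit 2944, nat_lit 3266, nat_lit 2877, nat_lit 2714, nat_lit 3223, nat_lit 2701, nat_lit 3141, nat_lit 3148, nat_lit 3246, nat_lit 2711, nat_lit 2916, nat_lit 2691, nat_lit 3000, nat_lit 2584, nat_lit 2762, nat_lit 2834, nat_lit 3008, nat_lit 3077, nat_lit 3276, nat_lit 3187, nat_lit 2994, nat_lit 2732, nat_lit 3230, nat_lit 2986, nat_lit 3186, nat_lit 2890, nat_lit 3004, nat_lit 2918, nat_lit 2921, nat_lit 2919, nat_lit 3232, nat_lit 3152, nat_lit 3140, nat_lit 3082, nat_lit 2576, nat_lit 2753, nat_lit 3030, nat_lit 2743, nat_lit 2683, nat_lit 2808, nat_lit 3170, nat_lit 2932, nat_lit 2751, nat_lit 2804, nat_lit 2563, nat_lit 2893, nat_lit 3176, nat_lit 2956, nat_lit 2634, nat_lit 2953, nat_lit 2573, nat_lit 3259, nat_lit 3208, nat_lit 2650, nat_lit 3109, nat_lit 2927, nat_lit 2774,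 nat_lit 3244, nat_lit 3078, nat_lit 2845, nat_lit 2805, nat_lit 2891, nat_lit 3191, nat_lit 2538, nat_lit 3116, nat_lit 2572, nat_lit 3073, nat_lit 2810, nat_lit 3251, nat_lit 3130, nat_lit 3114, nat_lit 3144, nat_lit 2603, nat_lit 2925, nat_lit 2610, nat_lit 3175, nat_lit 3284, nat_lit 3190, nat_lit 3015, nat_lit 3069, nat_lit 3094, nat_lit 2719, nat_lit 2682, nat_lit 3118, nat_lit 2602, nat_lit 2930, nat_lit 2715, nat_lit 2727, nat_lit 3146, nat_lit 3280, nat_lit 2917, nat_lit 3128, nat_lit 3006, nat_lit 3110, nat_lit 2826, nat_lit 3278, nat_lit 3053, nat_lit 2627, nat_lit 2896, nat_lit 2673, nat_lit 2861, nat_lit 3286, nat_lit 2862, nat_lit 3270, nat_lit 3122, nat_lit 3133, nat_lit 3268, nat_lit 2985, nat_lit 2668, nat_lit 2614, nat_lit 2566, nat_lit 2594, nat_lit 3235, nat_lit 2833, nat_lit 2847, nat_lit 3042, nat_lit 3269, nat_lit 3005, nat_lit 3306, nat_lit 2628, nat_lit 2800, nat_lit 2750, nat_lit 2950, nat_lit 2868,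 nat_lit 2670, nat_lit 3068, nat_lit 3031, nat_lit 2749, nat_lit 2692, nat_lit 2681, nat_lit 2799, nat_lit 2926, nat_lit 2949, nat_lit 2854, nat_lit 2543, nat_lit 2657, nat_lit 3296, nat_lit 2830, nat_lit 2914, nat_lit 2997, nat_lit 2636, nat_lit 3010, nat_lit 2730, nat_lit 3057, nat_lit 3234, nat_lit 3093, nat_lit 2739, nat_lit 2742, nat_lit 2630, nat_lit 2869, nat_lit 3183, nat_lit 2906, nat_lit 3174, nat_lit 3020, nat_lit 3104, nat_lit 3220, nat_lit 2706, nat_lit 2978, nat_lit 2945, nat_lit 2754, nat_lit 3092, nat_lit 2564, nat_lit 3066, nat_lit 2534, nat_lit 2664, nat_lit 3242, nat_lit 3070, nat_lit 2938, nat_lit 3021, nat_lit 2737, nat_lit 2557, nat_lit 2606, nat_lit 2567, nat_lit 2840, nat_lit 2574, nat_lit 2748, nat_lit 2983, nat_lit 2832, nat_lit 3099, nat_lit 2867, nat_lit 3075, nat_lit 2851, nat_lit 3023, nat_lit 3203, nat_lit 2987, nat_lit 3142, nat_lit 2920, nat_lit 2556, nat_lit 3126, nat_lit 3034, nat_lit 2703,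 nat_lit 2647, nat_lit 3028, nat_lit 2585, nat_lit 3112, nat_lit 2756, nat_lit 3050, nat_lit 2948, nat_lit 2849, nat_lit 3018, nat_lit 3160, nat_lit 2968, nat_lit 2696, nat_lit 3172, nat_lit 2562, nat_lit 2680, nat_lit 2922, nat_lit 2797, nat_lit 2760, nat_lit 2546, nat_lit 2993, nat_lit 2855, nat_lit 2595, nat_lit 2746, nat_lit 2733, nat_lit 3180, nat_lit 2788, nat_lit 2642, nat_lit 3197, nat_lit 2661, nat_lit 2957, nat_lit 2942, nat_lit 2872, nat_lit 2912, nat_lit 2842, nat_lit 2757, nat_lit 2648, nat_lit 2990, nat_lit 2617, nat_lit 2850, nat_lit 2665, nat_lit 3177, nat_lit 2828, nat_lit 3166, nat_lit 3124, nat_lit 2806, nat_lit 3132, nat_lit 2704, nat_lit 3036, nat_lit 2903, nat_lit 2694, nat_lit 2702, nat_lit 2819, nat_lit 2822, nat_lit 2874, nat_lit 2720, nat_lit 2729, nat_lit 2963, nat_lit 2644, nat_lit 3101, nat_lit 2784, nat_lit 2814, nat_lit 3272, nat_lit 3167, nat_lit 2540, nat_lit 2697, nat_lit 2542, nat_lit 2629,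 nat_lit 2612, nat_lit 2600, nat_lit 2577, nat_lit 2837, nat_lit 2558, nat_lit 2790, nat_lit 3063, nat_lit 3254, nat_lit 3282, nat_lit 3056, nat_lit 3218, nat_lit 2620, nat_lit 3258, nat_lit 2716, nat_lit 2549, nat_lit 3054, nat_lit 2712, nat_lit 2569, nat_lit 2764, nat_lit 3222, nat_lit 2554, nat_lit 2721, nat_lit 2793, nat_lit 2860, nat_lit 3100, nat_lit 3302, nat_lit 3106, nat_lit 3048, nat_lit 2635, nat_lit 2526, nat_lit 3151, nat_lit 2639, nat_lit 2659, nat_lit 3228, nat_lit 2935, nat_lit 2936, nat_lit 3016, nat_lit 3115, nat_lit 2649, nat_lit 3058, nat_lit 3074, nat_lit 2892, nat_lit 2807, nat_lit 2998, nat_lit 2646, nat_lit 3105, nat_lit 2934, nat_lit 2792, nat_lit 3200, nat_lit 2536, nat_lit 3046, nat_lit 2899, nat_lit 3159, nat_lit 2693, nat_lit 2689, nat_lit 2982, nat_lit 2924, nat_lit 2550, nat_lit 2972, nat_lit 3091, nat_lit 2866, nat_lit 2870, nat_lit 3212, nat_lit 3102, nat_lit 2616, nat_lit 3173, nat_lit 2588,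 nat_lit 3179, nat_lit 3188, nat_lit 2923, nat_lit 2591, nat_lit 2856, nat_lit 2752, nat_lit 2551, nat_lit 2787, nat_lit 2708, nat_lit 3192, nat_lit 2723, nat_lit 2876, nat_lit 3240, nat_lit 3224, nat_lit 3002, nat_lit 3290, nat_lit 2598, nat_lit 3210, nat_lit 3039, nat_lit 3275, nat_lit 3072, nat_lit 3098, nat_lit 2908, nat_lit 3291, nat_lit 3061, nat_lit 2999, nat_lit 3138, nat_lit 2776, nat_lit 2531, nat_lit 2900, nat_lit 2736, nat_lit 3001, nat_lit 3185, nat_lit 3080, nat_lit 2915, nat_lit 2960, nat_lit 2980, nat_lit 3150, nat_lit 2537, nat_lit 3201, nat_lit 2829, nat_lit 2771, nat_lit 2966, nat_lit 2613, nat_lit 2735, nat_lit 3049, nat_lit 2954, nat_lit 3198, nat_lit 2544, nat_lit 3241, nat_lit 2580, nat_lit 2570, nat_lit 2590, nat_lit 2937, nat_lit 2740, nat_lit 2976, nat_lit 3040, nat_lit 2599, nat_lit 2530, nat_lit 3264, nat_lit 3029, nat_lit 2586, nat_lit 3294, nat_lit 2724, nat_lit 2940, nat_lit 2565, nat_lit 2709,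 nat_lit 2879, nat_lit 2913, nat_lit 2770, nat_lit 3022, nat_lit 2660, nat_lit 2609, nat_lit 2802]),
   (nat_lit 18, nat_lit 258, [nat_lit 3604, nat_lit 3638, nat_lit 3550, nat_lit 3584, nat_lit 3628, nat_lit 3518, nat_lit 3560, nat_lit 3680, nat_lit 3548, nat_lit 3598, nat_lit 3594, nat_lit 3676, nat_lit 3520, nat_lit 3670, nat_lit 3530, nat_lit 3652, nat_lit 3678, nat_lit 3612, nat_lit 3556, nat_lit 3588, nat_lit 3648, nat_lit 3660, nat_lit 3570, nat_lit 3672, nat_lit 3666, nat_lit 3632, nat_lit 3528, nat_lit 3582, nat_lit 3674, nat_lit 3586, nat_lit 3542, nat_lit 3618, nat_lit 3552, nat_lit 3524, nat_lit 3640, nat_lit 3532, nat_lit 3522, nat_lit 3616, nat_lit 3662, nat_lit 3614, nat_lit 3546, nat_lit 3644, nat_lit 3626, nat_lit 3600, nat_lit 3554, nat_lit 3610, nat_lit 3580, nat_lit 3572, nat_lit 3566, nat_lit 3664, nat_lit 3538, nat_lit 3576, nat_lit 3658, nat_lit 3602, nat_lit 3564, nat_lit 3642, nat_lit 3596, nat_lit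 3558, nat_lit 3622, nat_lit 3650, nat_lit 3646, nat_lit 3592, nat_lit 3512, nat_lit 3514, nat_lit 3656, nat_lit 3590, nat_lit 3536, nat_lit 3568, nat_lit 3578, nat_lit 3668, nat_lit 3510, nat_lit 3620, nat_lit 3608, nat_lit 3516, nat_lit 3634, nat_lit 3534, nat_lit 3562, nat_lit 3606, nat_lit 3630, nat_lit 3624, nat_lit 3636, nat_lit 3540, nat_lit 3574, nat_lit 3526, nat_lit 3654, nat_lit 3544]),
   (nat_lit 19, nat_lit 21, [nat_lit 3760, nat_lit 3766, nat_lit 3764, nat_lit 3758, nat_lit 3754, nat_lit 3762, nat_lit 3756])]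

theorem r17 : rowOK D (nat_lit 1924) (nat_lit 20) (nat_lit 17) [nat_lit 701] g17 = true := by
  decide +kernel

def g18 : List (Nat × Nat × List Nat) :=
  [(nat_lit 3, nat_lit 40, [nat_lit 3315, nat_lit 3313]),
   (nat_lit 4, nat_lit 40, [nat_lit 3317, nat_lit 3323, nat_lit 37]),
   (nat_lit 5, nat_lit 40, [nat_lit 3329, nat_lit 3327, nat_lit 3325]),
   (nat_lit 9, nat_lit 80, [nat_lit 3331, nat_lit 3335, nat_lit 3337, nat_lit 3341, nat_lit 3339, nat_lit 3333, nat_lit 3343]),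
   (nat_lit 10, nat_lit 40, [nat_lit 3351, nat_lit 3349, nat_lit 3347, nat_lit 3345]),
   (nat_lit 14, nat_lit 200, [nat_lit 3369, nat_lit 3375, nat_lit 3355, nat_lit 3359, nat_lit 3371, nat_lit 3367, nat_lit 3365, nat_lit 3361, nat_lit 3363, nat_lit 3357, nat_lit 3373, nat_lit 3353]),
   (nat_lit 15, nat_lit 280, [nat_lit 3401, nat_lit 3383, nat_lit 3399, nat_lit 3377, nat_lit 3407, nat_lit 3389, nat_lit 3381, nat_lit 3385, nat_lit 3391, nat_lit 3409, nat_lit 3379, nat_lit 3393, nat_lit 3387, nat_lit 3405, nat_lit 3395, nat_lit 3403, nat_lit 3397]),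
   (nat_lit 16, nat_lit 880, [nat_lit 3495, nat_lit 3417, nat_lit 3433, nat_lit 3413, nat_lit 3439, nat_lit 3501, nat_lit 3505, nat_lit 3481, nat_lit 3465, nat_lit 3421, nat_lit 3503, nat_lit 3443, nat_lit 3489, nat_lit 3509, nat_lit 3423, nat_lit 3415, nat_lit 3485, nat_lit 3453, nat_lit 3463, nat_lit 3429, nat_lit 3499, nat_lit 3425, nat_lit 3483, nat_lit 3419, nat_lit 3487, nat_lit 3437, nat_lit 3449, nat_lit 3491, nat_lit 3441, nat_lit 3459, nat_lit 3507, nat_lit 3461, nat_lit 3451, nat_lit 3497, nat_lit 3435, nat_lit 3445, nat_lit 3455, nat_lit 3479, nat_lit 3475, nat_lit 3457, nat_lit 3471, nat_lit 3493, nat_lit 3427, nat_lit 3431, nat_lit 3473, nat_lit 3447, nat_lit 3477, nat_lit 3411, nat_lit 3467, nat_lit 3469]),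
   (nat_lit 17, nat_lit 1720, [nat_lit 3659, nat_lit 3569, nat_lit 3649, nat_lit 3633, nat_lit 3615, nat_lit 3563, nat_lit 3645, nat_lit 3607, nat_lit 3643, nat_lit 3585, nat_lit 3553, nat_lit 3631, nat_lit 3589, nat_lit 3673, nat_lit 3531, nat_lit 3597, nat_lit 3525, nat_lit 3675, nat_lit 3621, nat_lit 3661, nat_lit 3611, nat_lit 3557, nat_lit 3591, nat_lit 3551, nat_lit 3613, nat_lit 3513, nat_lit 3533, nat_lit 3521, nat_lit 3537, nat_lit 3599, nat_lit 3527, nat_lit 3593, nat_lit 3595, nat_lit 3565, nat_lit 3671, nat_lit 3511, nat_lit 3577, nat_lit 3669, nat_lit 3617, nat_lit 3681, nat_lit 3677, nat_lit 3657, nat_lit 3639, nat_lit 3625, nat_lit 3517, nat_lit 3567, nat_lit 3609, nat_lit 3571, nat_lit 3529, nat_lit 3651, nat_lit 3579, nat_lit 3601, nat_lit 3545, nat_lit 3559, nat_lit 3543, nat_lit 3561, nat_lit 3679, nat_lit 3519, nat_lit 3637, nat_lit 3523, nat_lit 3623, nat_lit 3647, nat_lit 3619, nat_lit 3555, nat_lit 3603,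 nat_lit 3627, nat_lit 3641, nat_lit 3663, nat_lit 3665, nat_lit 3629, nat_lit 3682, nat_lit 3575, nat_lit 3547, nat_lit 3653, nat_lit 3581, nat_lit 3535, nat_lit 3587, nat_lit 3549, nat_lit 3667, nat_lit 3605, nat_lit 3583, nat_lit 3573, nat_lit 3655, nat_lit 3515, nat_lit 3635, nat_lit 3539]),
   (nat_lit 18, nat_lit 435, [nat_lit 3736, nat_lit 3720, nat_lit 3708, nat_lit 3706, nat_lit 3717, nat_lit 3688, nat_lit 3696, nat_lit 3694, nat_lit 3700, nat_lit 3718, nat_lit 3704, nat_lit 3724, nat_lit 3701, nat_lit 3712, nat_lit 3730, nat_lit 3686, nat_lit 3728, nat_lit 3711, nat_lit 3698, nat_lit 3710, nat_lit 3726, nat_lit 3732, nat_lit 3714, nat_lit 3716, nat_lit 3692, nat_lit 3715, nat_lit 3690, nat_lit 3687, nat_lit 3734, nat_lit 3738, nat_lit 3722, nat_lit 3702]),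
   (nat_lit 19, nat_lit 40, [nat_lit 3770, nat_lit 3768])]

theorem r18 : rowOK D (nat_lit 1924) (nat_lit 20) (nat_lit 18) [nat_lit 1923, nat_lit 1655] g18 = true := by
  decide +kernel

def g19 : List (Nat × Nat × List Nat) :=
  [(nat_lit 3, nat_lit 253, [nat_lit 39]),
   (nat_lit 15, nat_lit 253, [nat_lit 3772]),
   (nat_lit 16, nat_lit 1012, [nat_lit 3749, nat_lit 3753, nat_lit 3747, nat_lit 3751]),
   (nat_lit 17, nat_lit 1771, [nat_lit 3767, nat_lit 3765, nat_lit 3755, nat_lit 3761, nat_lit 3757, nat_lit 3759, nat_lit 3763]),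
   (nat_lit 18, nat_lit 506, [nat_lit 3769, nat_lit 3771])]

theorem r19 : rowOK D (nat_lit 1924) (nat_lit 20) (nat_lit 19) [nat_lit 1871, nat_lit 1887] g19 = true := by
  decide +kernel

end Cfsg.Agent.Comp.J4
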