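import Cfsg.Agent.Comp.J4.Base
import Cfsg.Agent.Comp.J4.Rho
import Cfsg.Agent.Comp.J4.F0
import Cfsg.Agent.Comp.J4.F1
import Cfsg.Agent.Comp.J4.F2
import Cfsg.Agent.Comp.J4.F3
import Cfsg.Agent.Comp.J4.R0
import Cfsg.Agent.Comp.J4.R1
import Cfsg.Agent.Comp.J4.R2
import Cfsg.Agent.Comp.J4.R3

/-! The index of the subgroup. -/

set_option autoImplicit false
set_option maxRecDepth 100000

namespace Cfsg.Agent.Comp.J4
open Cfsg Cfsg.Agent.Comp

def rows : List (List (ℕ × ℕ)) :=
  [[(1, 3795)],
   [(0, 1), (1, 98), (2, 1008), (4, 2688)],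
   [(1, 12), (2, 103), (3, 320), (4, 480), (5, 192), (15, 384), (16, 768), (17, 1536)],
   [(2, 80), (3, 19), (4, 96), (5, 48), (15, 288), (16, 960), (17, 1728), (18, 384), (19, 192)],
   [(1, 2), (2, 30), (3, 24), (4, 431), (5, 48), (6, 36), (9, 24), (10, 48), (13, 24), (14, 168), (15, 384), (16, 816), (17, 1664), (18, 96)],
   [(2, 32), (3, 32), (4, 128), (5, 267), (6, 24), (9, 48), (10, 96), (14, 48), (15, 368), (16, 704), (17, 1792), (18, 256)],
   [(4, 384), (5, 96), (6, 99), (7, 8), (8, 8), (9, 32), (10, 288), (14, 192), (15, 384), (16, 768), (17, 1536)],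
   [(6, 144), (7, 87), (8, 12), (9, 672), (10, 192), (14, 1152), (16, 1536)],
   [(6, 336), (7, 28), (8, 71), (9, 672), (15, 2688)],
   [(4, 48), (5, 36), (6, 6), (7, 7), (8, 3), (9, 107), (10, 48), (13, 12), (14, 192), (15, 360), (16, 1056), (17, 1536), (18, 384)],
   [(4, 96), (5, 72), (6, 54), (7, 2), (9, 48), (10, 347), (11, 2), (12, 6), (13, 24), (14, 288), (15, 360), (16, 576), (17, 1728), (18, 192)],
   [(10, 2880), (11, 195), (12, 720)],
   [(10, 288), (11, 24), (12, 187), (13, 32), (14, 1152), (15, 576), (17, 1536)],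
   [(4, 576), (9, 144), (10, 288), (12, 8), (13, 91), (14, 432), (15, 144), (16, 576), (17, 1536)],
   [(4, 112), (5, 12), (6, 12), (7, 4), (9, 64), (10, 96), (12, 8), (13, 12), (14, 363), (15, 232), (16, 704), (17, 1856), (18, 320)],
   [(2, 8), (3, 24), (4, 128), (5, 46), (6, 12), (8, 2), (9, 60), (10, 60), (12, 2), (13, 2), (14, 116), (15, 407), (16, 912), (17, 1776), (18, 224), (19, 16)],
   [(2, 6), (3, 30), (4, 102), (5, 33), (6, 9), (7, 1), (9, 66), (10, 36), (13, 3), (14, 132), (15, 342), (16, 947), (17, 1800), (18, 264), (19, 24)],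
   [(2, 6), (3, 27), (4, 104), (5, 42), (6, 9), (9, 48), (10, 54), (12, 1), (13, 4), (14, 174), (15, 333), (16, 900), (17, 1814), (18, 258), (19, 21)],
   [(3, 40), (4, 40), (5, 40), (9, 80), (10, 40), (14, 200), (15, 280), (16, 880), (17, 1720), (18, 435), (19, 40)],
   [(3, 253), (15, 253), (16, 1012), (17, 1771), (18, 506)]]

open scoped Pointwise

variable {G : Type*} [Group G] {s : ℕ → G} {ι : M24 →* G}

theorem facts (hs : Sat s R) (hι : ∀ a < 3, ι (J4A.t a) = s a) :
    ∀ f < 1924, Ft (genW s [[0], [1], vw]) ι (s 3) (wd s) (db D f) :=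
  (all_facts (ctx hs hι) (frames hs hι) (all_facts (ctx hs hι) (frames hs hι) (all_facts (ctx hs hι) (frames hs hι) (all_facts (ctx hs hι) (frames hs hι) (all_facts (ctx hs hι) (frames hs hι) (all_facts (ctx hs hι) (frames hs hι) (all_facts (ctx hs hι) (frames hs hι) (all_facts (ctx hs hι) (frames hs hι) (all_facts (ctx hs hι) (frames hs hι) (all_facts (ctx hs hι) (frames hs hι) (all_facts (ctx hs hι) (frames hs hι) (all_facts (ctx hs hι) (frames hs hι) (all_facts (ctx hs hι) (frames hs hι) (all_facts (ctx hs hι) (frames hs hι) (all_facts (ctx hs hι) (frames hs hι) (all_facts (ctx hs hι) (frames hs hι) (all_facts (ctx hs hι) (frames hs hι) (all_facts (ctx hs hι) (frames hs hι) (all_facts (ctx hs hι) (frames hs hι) (all_facts (ctx hs hι) (frames hs hι) (all_facts (ctx hs hι) (frames hs hι) (base hs hι)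
    f0)
    f1)
    f2)
    f3)
    f4)
    f5)
    f6)
    f7)
    f8)
    f9)
    f10)
    f11)
    f12)
    f13)
    f14)
    f15)
    f16)
    f17)
    f18)
    f19)
    f20)

theorem closed_of (hs : Sat s R) (hι : ∀ a < 3, ι (J4A.t a) = s a) (ht : gen s 4 = ⊤) :
    Closed (genW s [[0], [1], vw]) ι o (s 3) 20 (wd s) rows := by
  have C := ctx hs hι
  refine ⟨C.cm, C.le, by norm_num, tr_Ω, C.w0, fun i hi => ?_, fun K h1 h2 => ?_,
    inv_eq_of_mul_eq_one_right C.tt⟩
  · interval_cases i
    exacts [row_spec (ctx hs hι) (facts hs hι) r0,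
    row_spec (ctx hs hι) (facts hs hι) r1,
    row_spec (ctx hs hι) (facts hs hι) r2,
    row_spec (ctx hs hι) (facts hs hι) r3,
    row_spec (ctx hs hι) (facts hs hι) r4,
    row_spec (ctx hs hι) (facts hs hι) r5,
    row_spec (ctx hs hι) (facts hs hι) r6,
    row_spec (ctx hs hι) (facts hs hι) r7,
    row_spec (ctx hs hι) (facts hs hι) r8,
    row_spec (ctx hs hι) (facts hs hι) r9,
    row_spec (ctx hs hι) (facts hs hι) r10,
    row_spec (ctx hs hι) (facts hs hι) r11,
    row_spec (ctx hs hι) (facts hs hι) r12,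
    row_spec (ctx hs hι) (facts hs hι) r13,
    row_spec (ctx hs hι) (facts hs hι) r14,
    row_spec (ctx hs hι) (facts hs hι) r15,
    row_spec (ctx hs hι) (facts hs hι) r16,
    row_spec (ctx hs hι) (facts hs hι) r17,
    row_spec (ctx hs hι) (facts hs hι) r18,
    row_spec (ctx hs hι) (facts hs hι) r19]
  · refine eq_top_iff.2 (ht ▸ gen_le.2 fun a ha => ?_)
    rcases (by omega : a < 3 ∨ a = 3) with c | rfl
    exacts [h1 ⟨_, hι a c⟩, h2]

end Cfsg.Agent.Comp.J4

namespace Cfsg.Agent.Comp.J4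
open Cfsg Cfsg.Agent.Comp
open scoped Pointwise

theorem closed : Closed H io o (s 3) 20 (wd s) rows := closed_of pres.sat io_t pres.top

theorem hne : ∀ i < 20, i ≠ 0 → wd s i ∉ H := fun i hi h0 e => by
  obtain ⟨h1, h2⟩ := (by decide +kernel : ∀ i < 20, i ≠ 0 → (∀ a ∈ Ws.getD i [], a < 4) ∧
    (run (Ws.getD i []) (2 ^ [0, 0, 0, 0, 2, 3, 0, 0, 1, 3, 0, 0, 0, 1, 4, 0, 0, 1, 3, 0].getD i 0)).testBit 0 ≠
      (2 ^ [0, 0, 0, 0, 2, 3, 0, 0, 1, 3, 0, 0, 0, 1, 4, 0, 0, 1, 3, 0].getD i 0).testBit 0) i hi h0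
  exact not_fx h1 h2 (H_le e)

instance finQ : Finite (Spor.J4 ⧸ H) := closed.finite

noncomputable instance fintypeQ : Fintype (Spor.J4 ⧸ H) := Fintype.ofFinite _

theorem fn (qs : List ℤ) : Fn H io 20 (wd s) (steps 3795 20 rows qs).1 (steps 3795 20 rows qs).2 :=
  closed.steps hne (by rw [card_Ω]; rfl) qs

theorem index_H : H.index = 173067389 :=
  closed.index (M := 309599494434222913648451084723045992394031160701487153152000) (fn [-37115065394723635686916539013716167475, -84307920941393545093764813369648239445, 5378384175399409664770530263819131095, 18770132411882844886867384716880905, -5880178304079675621033714743540844, 54650811235984097416519774838796, 1881643778839507729315451083308, -32203578534819577224800946540, -113584795075903565290481946, 5783814624090257118350954, -33757763291467602097150, -214901719464192235266, 3723001726391209988, -18429472210686820, 20727488735964, 182289024868, -953188427, 2090307, -2273, 1])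
    (by decide +kernel) (by decide +kernel) (by decide)

end Cfsg.Agent.Comp.J4
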