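import Cfsg.Agent.Comp.CoxG
import Cfsg.Agent.J4A.Main
import Cfsg.Agent.Golay.Mathieu
import Cfsg.Prelude.Def_Spor_J4

/-! The presentation of `J4` on the letters `x`, `y`, `y⁻¹`, `t`. -/

set_option autoImplicit false
set_option maxRecDepth 100000

namespace Cfsg.Agent.Comp.J4
open Cfsg Cfsg.Agent.Comp

def R6 : List (List Nat) :=
  [[0, 1],
   [1, 0],
   [2, 3],
   [3, 2],
   [4, 5],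
   [5, 4],
   [0, 0],
   [2, 2, 2],
   [0, 2, 0, 2, 0, 2, 0, 2, 0, 2, 0, 2, 0, 2, 0, 2, 0, 2, 0, 2, 0, 2, 0, 2, 0, 2, 0, 2, 0, 2, 0, 2, 0, 2, 0, 2, 0, 2, 0, 2, 0, 2, 0, 2, 0, 2],
   [1, 3, 0, 2, 1, 3, 0, 2, 1, 3, 0, 2, 1, 3, 0, 2, 1, 3, 0, 2, 1, 3, 0, 2, 1, 3, 0, 2, 1, 3, 0, 2, 1, 3, 0, 2, 1, 3, 0, 2, 1, 3, 0, 2, 1, 3, 0, 2],
   [1, 3, 1, 3, 0, 2, 0, 2, 1, 3, 1, 3, 0, 2, 0, 2, 1, 3, 1, 3, 0, 2, 0, 2, 1, 3, 1, 3, 0, 2, 0, 2, 1, 3, 1, 3, 0, 2, 0, 2],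
   [0, 2, 0, 2, 0, 3, 0, 2, 0, 3, 0, 2, 0, 3, 0, 2, 0, 2, 0, 3, 0, 2, 0, 3, 0, 2, 0, 3, 0, 2, 0, 2, 0, 3, 0, 2, 0, 3, 0, 2, 0, 3, 0, 2, 0, 2, 0, 3, 0, 2, 0, 3, 0, 2, 0, 3],
   [0, 2, 0, 2, 0, 3, 0, 2, 0, 2, 0, 3, 0, 2, 0, 2, 0, 3, 0, 2, 0, 3, 0, 3, 0, 2, 0, 3, 0, 3, 0, 2, 0, 3, 0, 3],
   [4, 4],
   [5, 3, 1, 3, 1, 3, 1, 2, 1, 2, 1, 3, 1, 3, 4, 2, 0, 2, 0, 3, 0, 3, 0, 2, 0, 2, 0, 2],
   [5, 1, 4, 0],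
   [2, 1, 2, 1, 3, 1, 2, 1, 3, 4, 2, 0, 3, 0, 2, 0, 3, 0, 2, 1, 2, 1, 3, 1, 2, 1, 3, 4, 2, 0, 3, 0, 2, 0, 3, 0, 2, 1, 2, 1, 3, 1, 2, 1, 3, 4, 2, 0, 3, 0, 2, 0, 3, 0],
   [2, 0, 2, 0, 2, 0, 2, 2, 0, 2, 0, 2, 0, 2, 2, 0, 2, 0, 2, 0, 2, 4, 3, 3, 1, 3, 1, 3, 1, 3, 1, 3, 1, 3, 1, 3, 3, 1, 3, 1, 3, 1, 4, 0, 2, 0, 2, 0, 2, 2, 0, 2, 0, 2, 0, 2, 0, 2, 0, 2, 0, 2, 2, 2, 0, 2, 0, 2, 0, 2, 2, 0, 2, 0, 2, 0, 2, 2, 0, 2, 0, 2, 0, 2, 4, 3, 3, 1, 3, 1, 3, 1, 3, 1, 3, 1, 3, 1, 3, 3, 1, 3, 1, 3, 1, 4, 0, 2, 0, 2, 0, 2, 2, 0, 2, 0, 2, 0, 2, 0, 2, 0, 2, 0, 2, 2]]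

def R : List (List Nat) :=
  [[0, 0],
   [1, 2],
   [2, 1],
   [3, 3],
   [1, 1, 1],
   [0, 1, 0, 1, 0, 1, 0, 1, 0, 1, 0, 1, 0, 1, 0, 1, 0, 1, 0, 1, 0, 1, 0, 1, 0, 1, 0, 1, 0, 1, 0, 1, 0, 1, 0, 1, 0, 1, 0, 1, 0, 1, 0, 1, 0, 1],
   [0, 2, 0, 1, 0, 2, 0, 1, 0, 2, 0, 1, 0, 2, 0, 1, 0, 2, 0, 1, 0, 2, 0, 1, 0, 2, 0, 1, 0, 2, 0, 1, 0, 2, 0, 1, 0, 2, 0, 1, 0, 2, 0, 1, 0, 2, 0, 1],
   [0, 2, 0, 2, 0, 1, 0, 1, 0, 2, 0, 2, 0, 1, 0, 1, 0, 2, 0, 2, 0, 1, 0, 1, 0, 2, 0, 2, 0, 1, 0, 1, 0, 2, 0, 2, 0, 1, 0, 1],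
   [0, 1, 0, 1, 0, 2, 0, 1, 0, 2, 0, 1, 0, 2, 0, 1, 0, 1, 0, 2, 0, 1, 0, 2, 0, 1, 0, 2, 0, 1, 0, 1, 0, 2, 0, 1, 0, 2, 0, 1, 0, 2, 0, 1, 0, 1, 0, 2, 0, 1, 0, 2, 0, 1, 0, 2],
   [0, 1, 0, 1, 0, 2, 0, 1, 0, 1, 0, 2, 0, 1, 0, 1, 0, 2, 0, 1, 0, 2, 0, 2, 0, 1, 0, 2, 0, 2, 0, 1, 0, 2, 0, 2],
   [3, 2, 0, 2, 0, 2, 0, 1, 0, 1, 0, 2, 0, 2, 3, 1, 0, 1, 0, 2, 0, 2, 0, 1, 0, 1, 0, 1],
   [3, 0, 3, 0],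
   [1, 0, 1, 0, 2, 0, 1, 0, 2, 3, 1, 0, 2, 0, 1, 0, 2, 0, 1, 0, 1, 0, 2, 0, 1, 0, 2, 3, 1, 0, 2, 0, 1, 0, 2, 0, 1, 0, 1, 0, 2, 0, 1, 0, 2, 3, 1, 0, 2, 0, 1, 0, 2, 0],
   [1, 0, 1, 0, 1, 0, 1, 1, 0, 1, 0, 1, 0, 1, 1, 0, 1, 0, 1, 0, 1, 3, 2, 2, 0, 2, 0, 2, 0, 2, 0, 2, 0, 2, 0, 2, 2, 0, 2, 0, 2, 0, 3, 0, 1, 0, 1, 0, 1, 1, 0, 1, 0, 1, 0, 1, 0, 1, 0, 1, 0, 1, 1, 1, 0, 1, 0, 1, 0, 1, 1, 0, 1, 0, 1, 0, 1, 1, 0, 1, 0, 1, 0, 1, 3, 2, 2, 0, 2, 0, 2, 0, 2, 0, 2, 0, 2, 0, 2, 2, 0, 2, 0, 2, 0, 3, 0, 1, 0, 1, 0, 1, 1, 0, 1, 0, 1, 0, 1, 0, 1, 0, 1, 0, 1, 1]]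

/-- the word of the third generator of the subgroup -/
def vw : List Nat := [1, 0, 1, 0, 2, 0, 2, 0, 2, 0, 2, 3, 1, 0, 1, 0, 1, 0, 1, 0, 2, 0, 1, 0, 1, 0, 2, 0, 2, 0, 2, 0, 2, 3, 1, 0, 1, 0, 1, 0, 1, 0, 2, 0, 1, 0, 1, 0, 2, 0, 2, 0, 2, 0, 2, 3, 1, 0, 1, 0, 1, 0, 1, 0, 2, 0]

/-- the second generator of the trio group -/
def kw : List Nat := [1, 0, 1, 0, 2, 0, 2, 0, 1, 0, 1, 0, 1]

def e : Spor.J4.Gen → ℕ | .x => 0 | .y => 2 | .t => 4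

/-- the letters with their inverses -/
noncomputable def s6 : ℕ → Spor.J4 := coxS Spor.J4.edges Spor.J4.extra
  [(.x, true), (.x, false), (.y, true), (.y, false), (.t, true), (.t, false)]

theorem presAll : IsPres s6 6 R6 ∧ (∀ x, s6 (e x) = PresentedGroup.of x) ∧
    ∀ r, PresentedGroup.mk _ r = ev s6 (freeWordG e (· + 1) r) :=
  isPres_coxG (all := [.x, .y, .t]) (by intro x; cases x <;> decide) (by decide +kernel)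

def f (i : ℕ) : ℕ := [0, 0, 1, 2, 3, 3].getD i 0

/-- the letters `x`, `y`, `y⁻¹`, `t` -/
noncomputable def s (i : ℕ) : Spor.J4 := s6 ([0, 2, 3, 4].getD i 0)

theorem s6_eq (i : ℕ) (hi : i < 6) : s6 i = s (f i) := by
  have h : ∀ a b, [a, a] ∈ R6 → [a, b] ∈ R6 → s6 b = s6 a := fun a b h1 h2 => by
    have e1 := presAll.1.sat _ h1
    have e2 := presAll.1.sat _ h2
    simp only [ev_cons, ev_nil, mul_one] at e1 e2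
    exact mul_left_cancel (e2.trans e1.symm)
  interval_cases i
  · rfl
  · exact h 0 1 (by decide) (by decide)
  · rfl
  · rfl
  · rfl
  · exact h 4 5 (by decide) (by decide)

theorem ev6 {w : List ℕ} (hw : ∀ x ∈ w, x < 6) : ev s6 w = ev s (w.map f) := by
  rw [ev_map]; exact ev_congr fun x hx => s6_eq x (hw x hx)

theorem hR : ∀ w ∈ R, ∀ x ∈ w, x < 4 := by decide +kernel

theorem pres : IsPres s 4 R := by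
  refine ⟨eq_top_iff.2 (presAll.1.top ▸ gen_le.2 fun x hx => ?_), fun w hw => ?_, fun G _ t ht => ?_⟩
  · rw [s6_eq x hx]
    exact letter_mem_gen ((by decide : ∀ x < 6, f x < 4) x hx)
  · obtain ⟨u, hu, h1, rfl⟩ :=
      (by decide +kernel : ∀ w ∈ R, ∃ u ∈ R6, (∀ x ∈ u, x < 6) ∧ u.map f = w) w hw
    rw [← ev6 h1]; exact presAll.1.sat u hu
  · obtain ⟨φ, hφ⟩ := presAll.1.univ G _ (ht.reindex f (R' := R6) (by decide +kernel))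
    refine ⟨φ, fun x hx => ?_⟩
    interval_cases x
    exacts [hφ 0 (by norm_num), hφ 2 (by norm_num), hφ 3 (by norm_num), hφ 4 (by norm_num)]

theorem satA {G : Type*} [Group G] {t : ℕ → G} (h : Sat t R) : Sat t J4A.R := fun w hw =>
  h w ((by decide +kernel : ∀ w ∈ J4A.R, w ∈ R) w hw)

/-- the map of `M24` to the group -/
noncomputable def io : M24 →* Spor.J4 := (J4A.exists_hom s (satA pres.sat)).choose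

theorem io_t (x : ℕ) (hx : x < 3) : io (J4A.t x) = s x := by
  obtain ⟨h1, h2⟩ := (J4A.exists_hom s (satA pres.sat)).choose_spec
  interval_cases x
  · exact h1
  · exact h2
  · have := pres.sat [1, 2] (by decide)
    simp only [ev_cons, ev_nil, mul_one] at this
    exact (map_inv io J4A.Y).trans ((congrArg (·⁻¹) h2).trans (inv_eq_of_mul_eq_one_right this))

theorem io_ev {w : List ℕ} (hw : ∀ x ∈ w, x < 3) : io (ev J4A.t w) = ev s w := by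
  rw [map_ev]; exact ev_congr fun x hx => io_t x (hw x hx)

theorem range_io : io.range = gen s 3 := by
  rw [MonoidHom.range_eq_map, ← J4A.gen_t]
  refine le_antisymm (Subgroup.map_le_iff_le_comap.2 (gen_le.2 fun x hx => ?_)) (gen_le.2 fun x hx => ?_)
  · rw [Subgroup.mem_comap, io_t x hx]; exact letter_mem_gen hx
  · exact ⟨_, letter_mem_gen hx, io_t x hx⟩

/-- the subgroup of shape `2 ^ 11 : M24` -/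
noncomputable def H : Subgroup Spor.J4 := genW s [[0], [1], vw]

theorem map_words (l : List (FreeGroup Spor.J4.Gen)) (S : Set (FreeGroup Spor.J4.Gen))
    (hS : ∀ r, r ∈ S ↔ r ∈ l) (W : List (List ℕ))
    (hW : l.map (fun r => (freeWordG e (· + 1) r).map f) = W)
    (h6 : ∀ r ∈ l, ∀ x ∈ freeWordG e (· + 1) r, x < 6) :
    (Subgroup.closure S).map (PresentedGroup.mk _) = genW s W := by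
  rw [map_closure_eqG presAll.2.2 l S hS _ rfl, ← hW, genW, genW]
  congr 1
  ext g
  simp only [Set.mem_ofPred_eq, List.mem_map]
  constructor
  · rintro ⟨_, ⟨r, hr, rfl⟩, rfl⟩
    exact ⟨_, ⟨r, hr, rfl⟩, ev6 (h6 r hr)⟩
  · rintro ⟨_, ⟨r, hr, rfl⟩, rfl⟩
    exact ⟨_, ⟨r, hr, rfl⟩, (ev6 (h6 r hr)).symm⟩

end Cfsg.Agent.Comp.J4
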