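import Cfsg.Agent.Comp.J4.Max
import Cfsg.Agent.J4B.H

/-! The group is simple of the right order. -/

set_option autoImplicit false

namespace Cfsg.Agent.Comp.J4
open Cfsg Cfsg.Agent.Comp Cfsg.Agent.Golay Cfsg.Agent.J4B
open scoped Pointwise

theorem card_J4 : Nat.card Spor.J4 = 86775571046077562880 := by
  rw [← H.card_mul_index, card_H, index_H]

instance finite_J4 : Finite Spor.J4 := Nat.finite_of_card_ne_zero (by rw [card_J4]; norm_num)

theorem u_mem : cV (fd 6 cS1) ∈ VV := by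
  rw [show cS1 = actF 6 (Golay.mat 0x58264605d73be462c456aa5141b550) cS by decide +kernel,
    ← nu_tet (by decide +kernel)]
  exact nu_mem _

theorem cP_ne : tm cP ≠ 1 := fun e => by
  have := pc_tm (c := cP) (by decide +kernel)
  rw [e, M24.coe_one, pc_one] at this
  exact absurd this (by decide)

theorem zuz : z * cV (fd 6 cS1) * z = cV (fd 6 cS1) * io (tm cP) := by
  rw [mul_assoc, tau, ← mul_assoc, zz, one_mul]

theorem z_inv : z⁻¹ = z := inv_eq_of_mul_eq_one_right zz

theorem z_not_mem : z ∉ H := fun h => hne 1 (by norm_num) (by norm_num) (by rwa [show wd s 1 = z from ev_single s 3])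

theorem top_of_VV {M : Subgroup Spor.J4} [hM : M.Normal] (h : VV ≤ M) : M = ⊤ := by
  have := simple_M24
  have h1 : io (tm cP) ∈ M := by
    have h2 := hM.conj_mem _ (h u_mem) z
    rw [z_inv, zuz] at h2
    exact (M.mul_mem_cancel_left (h u_mem)).1 h2
  have h2 : io.range ≤ M := by
    rintro _ ⟨g, rfl⟩
    rcases (hM.comap io).eq_bot_or_eq_top with e | e
    · exact absurd (e ▸ h1 : tm cP ∈ (⊥ : Subgroup M24)) cP_ne
    · exact (e ▸ Subgroup.mem_top g : g ∈ M.comap io)
  refine closed.gen M h2 ?_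
  have h3 : ∀ a < 3, (QuotientGroup.mk' M) (s a) = 1 := fun a ha =>
    (QuotientGroup.eq_one_iff _).2 (h2 ⟨_, io_t a ha⟩)
  have h4 : ∀ w : List ℕ, (∀ a ∈ w, a < 4) →
      (QuotientGroup.mk' M) (ev s w) = (QuotientGroup.mk' M) (s 3) ^ w.count 3 := fun w hw => by
    induction w with
    | nil => simp
    | cons a w ih =>
      rw [ev_cons, map_mul, ih fun b hb => hw b (List.mem_cons_of_mem _ hb)]
      rcases (by have := hw a List.mem_cons_self; omega : a < 3 ∨ a = 3) with c | rfl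
      · rw [h3 a c, one_mul, List.count_cons_of_ne (by omega)]
      · rw [List.count_cons_self, pow_succ']
  obtain ⟨r, hr, h5⟩ := (by decide +kernel : ∃ r ∈ R, r.count 3 = 3)
  have h6 := h4 r (hR r hr)
  rw [pres.sat r hr, map_one, h5, ← map_pow, pow_succ, pow_two, tt pres.sat, one_mul] at h6
  exact (QuotientGroup.eq_one_iff _).1 h6.symm

theorem exists_duad {g : M24} (hg : g ≠ 1) :
    ∃ a : Finset GolayPt, a.card = 2 ∧ symmDiff (g.1 • a) a ∉ CW := by
  obtain ⟨x, hx⟩ : ∃ x, g.1 x ≠ x := by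
    by_contra c
    exact hg (Subtype.ext (Equiv.ext fun x => not_not.1 fun h => c ⟨x, h⟩))
  obtain ⟨y, -, hy⟩ := Finset.exists_mem_notMem_of_card_lt_card (s := {x, g.1 x})
    (t := Finset.univ) (Finset.card_le_two.trans_lt (by rw [Finset.card_univ, card_golayPt]; norm_num))
  simp only [Finset.mem_insert, Finset.mem_singleton, not_or] at hy
  have h2 : ({x, y} : Finset GolayPt).card = 2 := Finset.card_pair (Ne.symm hy.1)
  refine ⟨{x, y}, h2, fun h => ?_⟩
  have h3 := card_symmDiff_add (g.1 • ({x, y} : Finset GolayPt)) {x, y}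
  rw [Finset.card_smul_finset, h2] at h3
  have h4 := card_of_mem_CW h
  have h5 : g.1 • ({x, y} : Finset GolayPt) = {x, y} :=
    symmDiff_eq_bot.1 (Finset.card_eq_zero.1 (by omega))
  have h6 : g.1 x ∈ ({x, y} : Finset GolayPt) :=
    h5 ▸ Finset.smul_mem_smul_finset (Finset.mem_insert_self x {y})
  simp only [Finset.mem_insert, Finset.mem_singleton] at h6
  exact h6.elim hx fun e => hy.2 e.symm

/-- a subgroup of `H` normalised by `H` is trivial or contains `VV` -/
theorem VV_le_of_mem {M : Subgroup Spor.J4} (hM : ∀ h ∈ H, ∀ x ∈ M, h * x * h⁻¹ ∈ M) {x : Spor.J4}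
    (h1 : x ∈ M) (h2 : x ∈ H) (h3 : x ≠ 1) : VV ≤ M := by
  have hN : ∀ g : M24, ∀ x ∈ M, io g * x * (io g)⁻¹ ∈ M := fun g => hM _ (io_mem g)
  obtain ⟨y, hy, g, rfl⟩ := mem_H.1 h2
  by_cases hg : g = 1
  · rw [hg, map_one, mul_one] at h1 h3
    exact (VV_irr hN).resolve_left fun e => h3 (e ▸ ⟨h1, hy⟩ : y ∈ (⊥ : Subgroup _))
  · obtain ⟨a, h4, h5⟩ := exists_duad hg
    have he : Even a.card := by rw [h4]; decide
    refine VV_le hN (even_symmDiff (by rwa [Finset.card_smul_finset]) he) h5 ?_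
    have h6 := mul_mem h1 (hM _ (VV_le_H (nu_mem a)) _ (inv_mem h1))
    rw [nu_symmDiff, nu_smul g he]
    convert h6 using 1
    have e1 := VV_comm hy (VV_conj g (nu_mem a))
    rw [inv_eq_of_mul_eq_one_right (nu_sq a)]
    calc _ = y * (io g * nu a * (io g)⁻¹) * y⁻¹ * nu a := by rw [e1]; group
      _ = _ := by group

theorem simple_J4 : IsSimpleGroup Spor.J4 := by
  have : Nontrivial Spor.J4 := ⟨⟨_, _, v_ne⟩⟩
  refine ⟨fun M hM => ?_⟩
  by_cases h : ∀ x ∈ M, x ∈ H → x = 1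
  swap
  · push Not at h
    obtain ⟨x, h1, h2, h3⟩ := h
    exact Or.inr (top_of_VV (VV_le_of_mem (fun g _ x hx => hM.conj_mem x hx g) h1 h2 h3))
  left
  rcases H_max (le_sup_right : H ≤ M ⊔ H) with e | e
  · exact eq_bot_iff.2 fun x hx => h x hx (e ▸ Subgroup.mem_sup_left hx)
  · obtain ⟨m, hm, k, hk, e1⟩ := Subgroup.mem_sup_of_normal_left.1 (e ▸ Subgroup.mem_top z)
    have hu := VV_le_H u_mem
    have hz : z * cV (fd 6 cS1) * z ∈ H := zuz ▸ mul_mem hu (io_mem _)
    have e2 : m = z * k⁻¹ := eq_mul_inv_of_mul_eq e1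
    have h1 := h _ (mul_mem (inv_mem hm) (hM.conj_mem _ hm (cV (fd 6 cS1)))) (by
      have := mul_mem (mul_mem (mul_mem hk hz) (inv_mem hk)) (inv_mem hu)
      convert this using 1
      rw [e2, mul_inv_rev, inv_inv, z_inv]; group)
    have h2 : z * cV (fd 6 cS1) * z = k⁻¹ * cV (fd 6 cS1) * k⁻¹⁻¹ := by
      rw [e2, mul_inv_rev, inv_inv, z_inv] at h1
      calc _ = k⁻¹ * (k * z * (cV (fd 6 cS1) * (z * k⁻¹) * (cV (fd 6 cS1))⁻¹)) * cV (fd 6 cS1) * k := by
            group
        _ = _ := by rw [h1]; group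
    have h3 := VV_conj_H (inv_mem hk) u_mem
    rw [← h2, zuz] at h3
    exact absurd (eq_one_of_mem ((VV.mul_mem_cancel_left u_mem).1 h3)) cP_ne

theorem rho_inj : Function.Injective rho := by
  have := simple_J4
  rw [← MonoidHom.ker_eq_bot_iff]
  refine (Subgroup.Normal.eq_bot_or_eq_top inferInstance).resolve_right fun e => ?_
  exact ne_one (w := [0]) (by decide) (A := 2) 4 (by decide +kernel)
    (e ▸ Subgroup.mem_top _ : ev s [0] ∈ rho.ker)

end Cfsg.Agent.Comp.J4
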